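import Mathlib
import Cfsg.Agent.FastGrp
import Cfsg.Agent.Prune
set_option linter.all false
prune_inst 0x7f00000000000000000000000000000000000000000000000000000000000000000000000000000000000000000000000000000000000000000000000000000000000000000000000000000000000000003fffffffffffffffffffffffffffbeffbdffffffff
open scoped Cfsg.Agent.FastGrp

/-!
# Coprime groups of automorphisms: abstract tools

`CC K`: every group of automorphisms of `K` of order prime to `|K|` is cyclic.
* `CC.of_equiv` : transfer;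
* `le_of_index_le_four` : subgroups of `MulAut K` of index at most four contain the groups of order prime to 6;
* `isCyclic_of_hom`, `isCyclic_of_split` : the two abstract criteria.
-/

set_option autoImplicit false

namespace Cfsg.Agent.H988.CopCyc

open Subgroup

/-- Every group of automorphisms of `K` of order prime to `|K|` is cyclic. -/
def CC (K : Type*) [Group K] : Prop :=
  ∀ A : Subgroup (MulAut K), (Nat.card A).Coprime (Nat.card K) → IsCyclic A

theorem CC.of_equiv {K L : Type*} [Group K] [Group L] (e : K ≃* L) (h : CC K) : CC L := by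
  intro A hA
  let E : MulAut L ≃* MulAut K := MulAut.congr e.symm
  have h1 : Nat.card (A.map E.toMonoidHom) = Nat.card A :=
    Nat.card_congr (A.equivMapOfInjective E.toMonoidHom E.injective).symm.toEquiv
  have h2 := h (A.map E.toMonoidHom) (by rw [h1, Nat.card_congr e.toEquiv]; exact hA)
  exact isCyclic_of_injective (A.equivMapOfInjective E.toMonoidHom E.injective).toMonoidHom
    (A.equivMapOfInjective E.toMonoidHom E.injective).injective

/-- An inner automorphism in a group of automorphisms of order prime to `|K|` is trivial. -/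
theorem eq_one_of_inner {K : Type*} [Group K] [Finite K] {A : Subgroup (MulAut K)}
    (hA : (Nat.card A).Coprime (Nat.card K)) {x : MulAut K} (hx : x ∈ A)
    (hi : x ∈ (MulAut.conj : K →* MulAut K).range) : x = 1 := by
  obtain ⟨k, rfl⟩ := hi
  have h1 : orderOf (MulAut.conj k) ∣ Nat.card K := by
    refine (orderOf_map_dvd MulAut.conj k).trans (orderOf_dvd_natCard k)
  have h2 : orderOf (MulAut.conj k) ∣ Nat.card A := by
    have h3 : orderOf (⟨_, hx⟩ : A) ∣ Nat.card A := orderOf_dvd_natCard _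
    rwa [← Subgroup.orderOf_coe] at h3
  have h3 : orderOf (MulAut.conj k) ∣ 1 := by
    rw [← hA]
    exact Nat.dvd_gcd h2 h1
  exact orderOf_eq_one_iff.1 (Nat.dvd_one.1 h3)

/-- If a power with exponent prime to the order is inner then the element is trivial. -/
theorem eq_one_of_pow_inner {K : Type*} [Group K] [Finite K] {A : Subgroup (MulAut K)}
    (hA : (Nat.card A).Coprime (Nat.card K)) {x : MulAut K} (hx : x ∈ A) {n : ℕ}
    (hn : ∀ r : ℕ, r.Prime → r ∣ n → r ∣ Nat.card K)
    (hi : x ^ n ∈ (MulAut.conj : K →* MulAut K).range) : x = 1 := by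
  have h1 : x ^ n = 1 := eq_one_of_inner hA (pow_mem hx n) hi
  have h2 : orderOf x ∣ n := orderOf_dvd_of_pow_eq_one h1
  have h3 : orderOf x ∣ Nat.card A := by
    have h3 : orderOf (⟨_, hx⟩ : A) ∣ Nat.card A := orderOf_dvd_natCard _
    rwa [← Subgroup.orderOf_coe] at h3
  rw [← orderOf_eq_one_iff]
  by_contra h
  obtain ⟨r, hr, hd⟩ := Nat.exists_prime_and_dvd h
  have h4 : r ∣ Nat.gcd (Nat.card A) (Nat.card K) := Nat.dvd_gcd (hd.trans h3) (hn r hr (hd.trans h2))
  rw [hA] at h4
  exact hr.one_lt.ne' (Nat.dvd_one.1 h4)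

/-- A subgroup of index at most four contains every subgroup of order prime to 6. -/
theorem le_of_index_le_four {G : Type*} [Group G] (R A : Subgroup G) (h0 : R.index ≠ 0) (h4 : R.index ≤ 4)
    (h2 : ¬ 2 ∣ Nat.card A) (h3 : ¬ 3 ∣ Nat.card A) : A ≤ R := by
  intro a ha
  have hfin : Finite (G ⧸ R) := Nat.finite_of_card_ne_zero h0
  let f : G →* Equiv.Perm (G ⧸ R) := MulAction.toPermHom G (G ⧸ R)
  have h5 : orderOf (f a) ∣ Nat.card A := by
    refine (orderOf_map_dvd f a).trans ?_
    have h3 : orderOf (⟨_, ha⟩ : A) ∣ Nat.card A := orderOf_dvd_natCard _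
    rwa [← Subgroup.orderOf_coe] at h3
  have h6 : orderOf (f a) ∣ 24 := by
    have h7 : orderOf (f a) ∣ (Nat.card (G ⧸ R)).factorial := by
      rw [← Nat.card_perm]
      exact orderOf_dvd_natCard _
    exact h7.trans (Nat.factorial_dvd_factorial h4)
  have h7 : orderOf (f a) = 1 := by
    by_contra h
    obtain ⟨r, hr, hd⟩ := Nat.exists_prime_and_dvd h
    have h8 : r ∣ 2 ^ 3 * 3 := hd.trans h6
    rcases (hr.dvd_mul).1 h8 with h9 | h9
    · have h10 := (Nat.prime_dvd_prime_iff_eq hr Nat.prime_two).1 (hr.dvd_of_dvd_pow h9)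
      subst h10
      exact h2 (hd.trans h5)
    · have h10 := (Nat.prime_dvd_prime_iff_eq hr Nat.prime_three).1 h9
      subst h10
      exact h3 (hd.trans h5)
  rw [orderOf_eq_one_iff] at h7
  have h8 : f a (QuotientGroup.mk (1 : G)) = QuotientGroup.mk (1 : G) := by rw [h7]; rfl
  have h9 : (QuotientGroup.mk (a * 1) : G ⧸ R) = QuotientGroup.mk (1 : G) := h8
  rw [mul_one, QuotientGroup.eq, mul_one] at h9
  exact (R.inv_mem_iff).1 h9

/-- A homomorphism from `A` to a cyclic group with trivial kernel. -/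
theorem isCyclic_of_inj {A C : Type*} [Group A] [Group C] [IsCyclic C] (f : A →* C)
    (h : ∀ a, f a = 1 → a = 1) : IsCyclic A :=
  isCyclic_of_injective f ((injective_iff_map_eq_one f).2 h)

/-- **Criterion.** Relational form: every `g : G₀` is related to some `c : C`, compatibly with products; `A` lies in the
image of `Ψ` and `Ψ g = 1` if `Ψ g ∈ A` and `g` is related to `1`. -/
theorem isCyclic_of_rel {G G₀ C : Type*} [Group G] [Group G₀] [Group C] [IsCyclic C] (Ψ : G₀ →* G)
    (Rl : G₀ → C → Prop) (htot : ∀ g, ∃ c, Rl g c) (hone : Rl 1 1)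
    (hmul : ∀ g h c d, Rl g c → Rl h d → Rl (g * h) (c * d)) (hinv : ∀ g c, Rl g c → Rl g⁻¹ c⁻¹)
    (A : Subgroup G) (hA : A ≤ Ψ.range) (h : ∀ g, Rl g 1 → Ψ g ∈ A → Ψ g = 1) : IsCyclic A := by
  let P : Subgroup (A × C) :=
    { carrier := {x | ∃ g, Ψ g = x.1 ∧ Rl g x.2}
      mul_mem' := by
        rintro x y ⟨g, hg, hg'⟩ ⟨k, hk, hk'⟩
        exact ⟨g * k, by rw [map_mul, hg, hk]; rfl, hmul _ _ _ _ hg' hk'⟩
      one_mem' := ⟨1, by rw [map_one]; rfl, hone⟩
      inv_mem' := by
        rintro x ⟨g, hg, hg'⟩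
        exact ⟨g⁻¹, by rw [map_inv, hg]; rfl, hinv _ _ hg'⟩ }
  let p1 : P →* A := (MonoidHom.fst A C).comp P.subtype
  let p2 : P →* C := (MonoidHom.snd A C).comp P.subtype
  have hP : IsCyclic P := by
    refine isCyclic_of_inj p2 ?_
    rintro ⟨⟨⟨a, ha⟩, c⟩, g, hg, hg'⟩ h1
    have h2 : c = 1 := h1
    subst h2
    have h3 : Ψ g = a := hg
    have h4 : a = 1 := by
      rw [← h3]
      exact h g hg' (by rw [h3]; exact ha)
    subst h4
    rfl
  refine isCyclic_of_surjective p1 ?_
  rintro ⟨a, ha⟩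
  obtain ⟨g, rfl⟩ := hA ha
  obtain ⟨c, hc⟩ := htot g
  exact ⟨⟨⟨⟨Ψ g, ha⟩, c⟩, g, rfl, hc⟩, rfl⟩

/-- The same for finite groups, with less to check. -/
theorem isCyclic_of_rel_fin {G G₀ C : Type*} [Group G] [Group G₀] [Finite G₀] [Group C] [Finite C] [IsCyclic C]
    (Ψ : G₀ →* G) (Rl : G₀ → C → Prop) (htot : ∀ g, ∃ c, Rl g c)
    (hmul : ∀ g h c d, Rl g c → Rl h d → Rl (g * h) (c * d))
    (A : Subgroup G) (hA : A ≤ Ψ.range) (h : ∀ g, Rl g 1 → Ψ g ∈ A → Ψ g = 1) : IsCyclic A := by
  have hpow : ∀ g c, Rl g c → ∀ k : ℕ, Rl (g ^ (k + 1)) (c ^ (k + 1)) := by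
    intro g c hg k
    induction k with
    | zero => simpa using hg
    | succ k ih =>
      rw [pow_succ g, pow_succ c]
      exact hmul _ _ _ _ ih hg
  have hn : ∀ (g : G₀) (c : C), ∃ n : ℕ, 0 < n ∧ g ^ n = 1 ∧ c ^ n = 1 := by
    intro g c
    refine ⟨orderOf g * orderOf c, Nat.mul_pos (orderOf_pos g) (orderOf_pos c), ?_, ?_⟩
    · rw [pow_mul, pow_orderOf_eq_one, one_pow]
    · rw [mul_comm, pow_mul, pow_orderOf_eq_one, one_pow]
  refine isCyclic_of_rel Ψ Rl htot ?_ hmul ?_ A hA h
  · obtain ⟨c, hc⟩ := htot 1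
    obtain ⟨n, hn0, h1, h2⟩ := hn 1 c
    have := hpow 1 c hc (n - 1)
    rw [Nat.sub_add_cancel hn0] at this
    rwa [h1, h2] at this
  · intro g c hg
    obtain ⟨n, hn0, h1, h2⟩ := hn g c
    have := hpow g c hg (2 * n - 2)
    rw [show 2 * n - 2 + 1 = 2 * n - 1 by omega] at this
    have e1 : g ^ (2 * n - 1) = g⁻¹ := by
      rw [eq_inv_iff_mul_eq_one, ← pow_succ, Nat.sub_add_cancel (by omega), mul_comm, pow_mul, h1, one_pow]
    have e2 : c ^ (2 * n - 1) = c⁻¹ := by
      rw [eq_inv_iff_mul_eq_one, ← pow_succ, Nat.sub_add_cancel (by omega), mul_comm, pow_mul, h2, one_pow]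
    rwa [e1, e2] at this

/-- The group `Ā` in `Out K`. -/
theorem isCyclic_of_out {K : Type*} [Group K] [Finite K] (A : Subgroup (MulAut K))
    (hA : (Nat.card A).Coprime (Nat.card K)) {O : Type*} [Group O] (π : MulAut K →* O)
    (hπ : ∀ α, π α = 1 → α ∈ (MulAut.conj : K →* MulAut K).range) (h : IsCyclic (A.map π)) : IsCyclic A := by
  refine isCyclic_of_inj (π.subgroupMap A) ?_
  rintro ⟨a, ha⟩ h1
  exact Subtype.ext (eq_one_of_inner hA ha (hπ a (congrArg Subtype.val h1)))

/-- If every automorphism is the product of an inner one and one in the image of a cyclic group. -/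
theorem CC.of_surj {K C : Type*} [Group K] [Finite K] [Group C] [IsCyclic C] (f : C →* MulAut K)
    (h : ∀ α, ∃ (k : K) (c : C), α = MulAut.conj k * f c) : CC K := by
  intro A hA
  have hn : ((MulAut.conj : K →* MulAut K).range).Normal := by
    constructor
    rintro _ ⟨k, rfl⟩ φ
    refine ⟨φ k, ?_⟩
    ext x
    simp [MulAut.conj_apply]
  let π := QuotientGroup.mk' (MulAut.conj : K →* MulAut K).range
  have hs : Function.Surjective (π.comp f) := by
    intro x
    obtain ⟨α, rfl⟩ := QuotientGroup.mk'_surjective _ x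
    obtain ⟨k, c, rfl⟩ := h α
    refine ⟨c, ?_⟩
    rw [map_mul]
    have : π (MulAut.conj k) = 1 := (QuotientGroup.eq_one_iff _).2 ⟨k, rfl⟩
    rw [this, one_mul]
    rfl
  have hc : IsCyclic (MulAut K ⧸ (MulAut.conj : K →* MulAut K).range) := isCyclic_of_surjective _ hs
  refine isCyclic_of_out A hA π (fun α hα => (QuotientGroup.eq_one_iff _).1 hα) ?_
  exact isCyclic_of_injective (A.map π).subtype (A.map π).subtype_injective

/-- If all the primes dividing the index of the inner automorphism group divide the order. -/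
theorem CC.of_index {K : Type*} [Group K] [Finite K]
    (h : ∀ r : ℕ, r.Prime → r ∣ (MulAut.conj : K →* MulAut K).range.index → r ∣ Nat.card K) : CC K := by
  intro A hA
  have hn : ((MulAut.conj : K →* MulAut K).range).Normal := by
    constructor
    rintro _ ⟨k, rfl⟩ φ
    refine ⟨φ k, ?_⟩
    ext x
    simp [MulAut.conj_apply]
  have h1 : ∀ a ∈ A, a = 1 := fun a ha =>
    eq_one_of_pow_inner hA ha h (Subgroup.pow_index_mem _ a)
  have : Subsingleton A := ⟨fun a b => Subtype.ext ((h1 a a.2).trans (h1 b b.2).symm)⟩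
  infer_instance

/-- **Criterion.** `A ≤ D C`, `C` cyclic normalising `D`, and `A ⊓ D = 1`. -/
theorem isCyclic_of_split {G C : Type*} [Group G] [Group C] [IsCyclic C] (f : C →* G) (D : Subgroup G)
    (hn : ∀ c, ∀ d ∈ D, f c * d * (f c)⁻¹ ∈ D) (A : Subgroup G) (hA' : A ≤ D ⊔ f.range)
    (h : ∀ x ∈ A, x ∈ D → x = 1) : IsCyclic A := by
  -- the subgroup `D C`
  have hnorm : f.range ≤ normalizer (D : Set G) := by
    rintro _ ⟨c, rfl⟩
    rw [mem_normalizer_iff]
    intro x
    refine ⟨fun hx => hn c x hx, fun hx => ?_⟩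
    have := hn c⁻¹ _ hx
    rw [map_inv] at this
    have e : (f c)⁻¹ * (f c * x * (f c)⁻¹) * (f c)⁻¹⁻¹ = x := by group
    rwa [e] at this
  set R : Subgroup G := D ⊔ f.range with hR
  have hDR : D ≤ R := le_sup_left
  have hfR : f.range ≤ R := le_sup_right
  have hDn : (D.subgroupOf R).Normal := by
    rw [← normalizer_eq_top_iff, eq_top_iff]
    have h1 : R ≤ normalizer (D : Set G) := sup_le le_normalizer hnorm
    rintro ⟨r, hr⟩ -
    rw [mem_normalizer_iff]
    rintro ⟨x, hx⟩
    exact mem_normalizer_iff.1 (h1 hr) x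
  let f' : C →* R ⧸ D.subgroupOf R :=
    (QuotientGroup.mk' _).comp (f.codRestrict R fun c => hfR ⟨c, rfl⟩)
  let g : A →* R ⧸ D.subgroupOf R := (QuotientGroup.mk' _).comp (Subgroup.inclusion hA')
  have htop : ∀ r : R, (QuotientGroup.mk' (D.subgroupOf R)) r ∈ f'.range := by
    have h1 : R ≤ (f'.range.comap (QuotientGroup.mk' (D.subgroupOf R))).map R.subtype := by
      have h0 : ∀ T : Subgroup G, D ≤ T → f.range ≤ T → R ≤ T := fun T h1 h2 => sup_le h1 h2
      refine h0 _ ?_ ?_
      · intro d hd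
        refine ⟨⟨d, hDR hd⟩, ?_, rfl⟩
        refine ⟨1, ?_⟩
        rw [map_one]
        exact ((QuotientGroup.eq_one_iff _).2 (mem_subgroupOf.2 hd)).symm
      · rintro _ ⟨c, rfl⟩
        exact ⟨⟨f c, hfR ⟨c, rfl⟩⟩, ⟨c, rfl⟩, rfl⟩
    rintro ⟨r, hr⟩
    obtain ⟨x, hx, hxr⟩ := h1 hr
    have h2 : x = ⟨r, hr⟩ := Subtype.ext hxr
    rw [← h2]
    exact hx
  have hc : IsCyclic f'.range := isCyclic_of_surjective f'.rangeRestrict f'.rangeRestrict_surjective
  have hg : g.range ≤ f'.range := by
    rintro _ ⟨⟨a, ha⟩, rfl⟩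
    exact htop _
  have hc2 : IsCyclic g.range := isCyclic_of_injective (Subgroup.inclusion hg) (Subgroup.inclusion_injective hg)
  refine isCyclic_of_inj g.rangeRestrict ?_
  rintro ⟨a, ha⟩ h1
  have h2 : g ⟨a, ha⟩ = 1 := congrArg Subtype.val h1
  have h3 : (QuotientGroup.mk (Subgroup.inclusion hA' ⟨a, ha⟩) : R ⧸ D.subgroupOf R) = 1 := h2
  rw [QuotientGroup.eq_one_iff, mem_subgroupOf] at h3
  exact Subtype.ext (h a ha h3)

/-- An element of odd order whose square lies in `R` lies in `R`. -/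
theorem mem_of_sq_mem {G : Type*} [Group G] {A R : Subgroup G} (hodd : ¬ 2 ∣ Nat.card A) {a : G} (ha : a ∈ A)
    (h : a * a ∈ R) : a ∈ R := by
  have h1 : orderOf a ∣ Nat.card A := by
    have h3 : orderOf (⟨_, ha⟩ : A) ∣ Nat.card A := orderOf_dvd_natCard _
    rwa [← Subgroup.orderOf_coe] at h3
  have h2 : ¬ 2 ∣ orderOf a := fun h3 => hodd (h3.trans h1)
  obtain ⟨k, hk⟩ : ∃ k, orderOf a = 2 * k + 1 := ⟨orderOf a / 2, by omega⟩
  have h3 : (a * a) ^ (k + 1) = a := by
    rw [← pow_two, ← pow_mul, show 2 * (k + 1) = orderOf a + 1 by rw [hk]; ring, pow_succ, pow_orderOf_eq_one,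
      one_mul]
  rw [← h3]
  exact pow_mem h _

/-- In a perfect group the order of a central element divides the index of the centre. -/
theorem dvd_of_center {G : Type*} [Group G] [Finite G] (hp : commutator G = ⊤) (z : G) (hz : z ∈ center G) :
    orderOf z ∣ (center G).index := by
  have hmul : ∀ a b : G, (a * b) ^ (center G).index = a ^ (center G).index * b ^ (center G).index := fun a b => by
    have h := congrArg Subtype.val ((MonoidHom.transferCenterPow G).map_mul a b)
    rw [MonoidHom.transferCenterPow_apply, Subgroup.coe_mul, MonoidHom.transferCenterPow_apply,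
      MonoidHom.transferCenterPow_apply] at h
    exact h
  have hcen : ∀ a : G, a ^ (center G).index ∈ center G := fun a => by
    rw [← MonoidHom.transferCenterPow_apply]
    exact Subtype.property _
  let f : G →* G :=
    { toFun := fun a => a ^ (center G).index
      map_one' := one_pow _
      map_mul' := hmul }
  have h2 : commutator G ≤ f.ker := by
    rw [commutator_def, commutator_le]
    intro a _ b _
    rw [MonoidHom.mem_ker, map_commutatorElement, commutatorElement_eq_one_iff_mul_comm]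
    exact (mem_center_iff.1 (hcen a) (f b)).symm
  rw [hp] at h2
  have _ := hz
  exact orderOf_dvd_of_pow_eq_one (MonoidHom.mem_ker.1 (h2 (mem_top z)))

end Cfsg.Agent.H988.CopCyc
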