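import Mathlib
import Cfsg.Agent.H597.L2Aut
import Cfsg.Agent.LieClassical.SLGen
import Cfsg.Agent.LieRecognition.FieldSemilinear
import Cfsg.Agent.H988.CopCyc.Base
import Cfsg.Agent.Schreier.PSU
import Cfsg.Agent.LieClassical.HermPerfect
import Cfsg.Agent.ClassicalGeometry.GUBasic
import Cfsg.Prelude.Def_Classical
import Cfsg.Agent.StandardComponent.AltAut
import Cfsg.Agent.S0253
import Cfsg.Agent.S0254
import Cfsg.Agent.Schreier.ClassPSp
import Cfsg.Agent.H69.OutCount
import Cfsg.Agent.H69.OutTwD4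
import Cfsg.Agent.H166.OutTwESix
import Cfsg.Agent.S2127
import Cfsg.Agent.S2128
import Cfsg.Agent.H70.SzOut
import Cfsg.Agent.CpAut.RgdTwStd
import Cfsg.Agent.S2159
import Cfsg.Agent.S1059
import Cfsg.Agent.S1062
import Cfsg.Agent.S1063
import Cfsg.Agent.S1064
import Cfsg.Agent.S1065
import Cfsg.Prelude.Def_Classification2
import Cfsg.Agent.S0205
import Cfsg.Agent.S0293
import Cfsg.Agent.BpSpor.RowAll
import Cfsg.Agent.Schreier.ClassAll
import Cfsg.Agent.H988.CopCyc.Orth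
import Cfsg.Agent.FastGrp
import Cfsg.Agent.Prune
set_option linter.all false

section
prune_inst 0x7f00000000000000000000000000000000000000000000000000000000000000000000000000000000000000000000000000000000000000000000000000000000000000000000000000000000000000003fffffffffffffffffffffffffffbeffbdffffffff

-- part: H988/CopCyc/Psl_mg
section
set_option linter.all false
open scoped Cfsg.Agent.FastGrp

-- part: H988/CopCyc/Psl
section
/-!
# Coprime groups of automorphisms of `PSL n F` are cyclic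
-/

set_option autoImplicit false

namespace Cfsg.Agent.H988.CopCyc.Psl

open Matrix Cfsg.Agent.H988.CopCyc
open Cfsg.Agent.ClassicalGeometry.AutPSL.Root Cfsg.Agent.ClassicalGeometry.AutPSL.Auto
  Cfsg.Agent.ClassicalGeometry.AutPSL.Main Cfsg.Agent.Schreier.ClassPSL

section general

variable {ι F : Type*} [Fintype ι] [DecidableEq ι] [Field F]

theorem lift_cj_of_det {A : GL ι F} (hdet : (A : Matrix ι ι F).det = 1) :
    lift (cj A) ∈ (MulAut.conj : Matrix.ProjectiveSpecialLinearGroup ι F →*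
      MulAut (Matrix.ProjectiveSpecialLinearGroup ι F)).range := by
  let s : Matrix.SpecialLinearGroup ι F := ⟨_, hdet⟩
  refine ⟨pr s, ?_⟩
  apply MulEquiv.ext
  intro x
  obtain ⟨x, rfl⟩ := pr_surjective x
  rw [lift_pr, MulAut.conj_apply, ← map_inv, ← map_mul, ← map_mul]
  congr 1
  apply Subtype.ext
  rw [coe_cj]
  have hinv : (s⁻¹ : Matrix.SpecialLinearGroup ι F).1 = ((A⁻¹ : GL ι F) : Matrix ι ι F) := by
    have h1 : (s * s⁻¹ : Matrix.SpecialLinearGroup ι F).1 = 1 := by rw [mul_inv_cancel]; rfl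
    have h2 : (A : Matrix ι ι F) * (s⁻¹ : Matrix.SpecialLinearGroup ι F).1 = 1 := h1
    have h3 : ((A⁻¹ : GL ι F) : Matrix ι ι F) * (A : Matrix ι ι F) = 1 := by
      rw [← Units.val_mul, inv_mul_cancel, Units.val_one]
    calc (s⁻¹ : Matrix.SpecialLinearGroup ι F).1
        = (((A⁻¹ : GL ι F) : Matrix ι ι F) * (A : Matrix ι ι F)) *
          (s⁻¹ : Matrix.SpecialLinearGroup ι F).1 := by rw [h3, one_mul]
      _ = _ := by rw [mul_assoc, h2, mul_one]
  change s.1 * x.1 * (s⁻¹ : Matrix.SpecialLinearGroup ι F).1 = _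
  rw [hinv]

/-- The `|ι|`-th power of a linear automorphism is inner. -/
theorem pow_card_inner (A : GL ι F) :
    lift (cj A) ^ Fintype.card ι ∈ (MulAut.conj : Matrix.ProjectiveSpecialLinearGroup ι F →*
      MulAut (Matrix.ProjectiveSpecialLinearGroup ι F)).range := by
  set u : Fˣ := Matrix.GeneralLinearGroup.det A with hu
  set C : GL ι F := Matrix.GeneralLinearGroup.scalar ι u⁻¹ with hC
  have h1 : cj C = 1 := cj_eq_one_of_scalar (r := ((u⁻¹ : Fˣ) : F)) rfl
  have h2 : lift (cj A) ^ Fintype.card ι = lift (cj (A ^ Fintype.card ι * C)) := by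
    rw [map_mul cj, h1, mul_one, map_pow, map_pow]
  rw [h2]
  apply lift_cj_of_det
  have h3 : (A : Matrix ι ι F).det = (u : F) := rfl
  have h4 : (C : Matrix ι ι F).det = ((u⁻¹ : Fˣ) : F) ^ Fintype.card ι := by
    rw [hC, Matrix.GeneralLinearGroup.coe_scalar]
    rw [Matrix.scalar_apply, Matrix.det_diagonal, Finset.prod_const, Finset.card_univ]
  rw [Units.val_mul, Units.val_pow_eq_pow_val, det_mul, det_pow, h3, h4, ← mul_pow, ← Units.val_mul, mul_inv_cancel,
    Units.val_one, one_pow]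

/-- The `(|F|-1)`-st power of a linear automorphism is inner. -/
theorem pow_units_inner [Finite F] (A : GL ι F) :
    lift (cj A) ^ Nat.card Fˣ ∈ (MulAut.conj : Matrix.ProjectiveSpecialLinearGroup ι F →*
      MulAut (Matrix.ProjectiveSpecialLinearGroup ι F)).range := by
  have h2 : lift (cj A) ^ Nat.card Fˣ = lift (cj (A ^ Nat.card Fˣ)) := by
    rw [map_pow, map_pow]
  rw [h2]
  apply lift_cj_of_det
  have h3 : Matrix.GeneralLinearGroup.det A ^ Nat.card Fˣ = 1 := pow_card_eq_one'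
  rw [← map_pow] at h3
  exact congrArg Units.val h3

end general

variable {F : Type*} [Field F] [Finite F] {n : ℕ}

/-- A prime dividing `n` and `|F| - 1` divides `|PSL n F|`. -/
theorem prime_dvd (hn : 2 ≤ n) (h2 : 2 ∣ Nat.card (Matrix.ProjectiveSpecialLinearGroup (Fin n) F)) {r : ℕ}
    (hr : r.Prime) (h1 : r ∣ n) (h3 : r ∣ Nat.card Fˣ) :
    r ∣ Nat.card (Matrix.ProjectiveSpecialLinearGroup (Fin n) F) := by
  have := Fintype.ofFinite F
  rcases Nat.lt_or_ge n 3 with h | h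
  · obtain rfl : n = 2 := by omega
    rwa [(Nat.prime_dvd_prime_iff_eq hr Nat.prime_two).1 h1]
  · have : Fact r.Prime := ⟨hr⟩
    obtain ⟨z, hz⟩ := exists_prime_orderOf_dvd_card' r h3
    have hdet : (Matrix.scalar (Fin n) (z : F)).det = 1 := by
      rw [Matrix.scalar_apply, Matrix.det_diagonal, Finset.prod_const, Finset.card_univ, Fintype.card_fin]
      obtain ⟨m, rfl⟩ := h1
      have h4 : z ^ r = 1 := by rw [← hz]; exact pow_orderOf_eq_one z
      have h5 : (z : F) ^ r = 1 := congrArg Units.val h4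
      rw [pow_mul, h5, one_pow]
    let s : Matrix.SpecialLinearGroup (Fin n) F := ⟨Matrix.scalar (Fin n) (z : F), hdet⟩
    have hs : s ∈ Subgroup.center (Matrix.SpecialLinearGroup (Fin n) F) := by
      rw [Subgroup.mem_center_iff]
      intro g
      apply Subtype.ext
      exact ((scalar_commute (n := Fin n) (z : F) (Commute.all _) g.1).symm)
    have hne : Nonempty (Fin n) := ⟨⟨0, by omega⟩⟩
    have hsr : orderOf s = r := by
      apply orderOf_eq_prime
      · apply Subtype.ext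
        have h4 : z ^ r = 1 := by rw [← hz]; exact pow_orderOf_eq_one z
        have h5 : (z : F) ^ r = 1 := congrArg Units.val h4
        change (s ^ r : Matrix.SpecialLinearGroup (Fin n) F).1 = 1
        rw [Matrix.SpecialLinearGroup.coe_pow]
        change (Matrix.scalar (Fin n) (z : F)) ^ r = 1
        rw [← map_pow, h5, map_one]
      · intro h4
        have h5 : Matrix.scalar (Fin n) (z : F) = 1 := congrArg Subtype.val h4
        have h6 := congrFun (congrFun h5 ⟨0, by omega⟩) ⟨0, by omega⟩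
        rw [Matrix.scalar_apply, Matrix.diagonal_apply_eq, Matrix.one_apply_eq] at h6
        have h7 : z = 1 := Units.ext h6
        rw [h7, orderOf_one] at hz
        exact hr.one_lt.ne hz
    have h6 := dvd_of_center (G := Matrix.SpecialLinearGroup (Fin n) F)
      (Cfsg.Agent.LieClassical.SLGen.commutator_eq_top (by rw [Fintype.card_fin]; exact h)) s hs
    rw [hsr] at h6
    exact h6

/-- **Coprime groups of automorphisms of `PSL n F` are cyclic.** -/
theorem cc (hn : 2 ≤ n) (h2 : 2 ∣ Nat.card (Matrix.ProjectiveSpecialLinearGroup (Fin n) F)) :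
    CC (Matrix.ProjectiveSpecialLinearGroup (Fin n) F) := by
  intro A hA
  have := Fintype.ofFinite F
  obtain ⟨p, hp⟩ := CharP.exists F
  have hprime : Fact p.Prime := ⟨CharP.char_is_prime F p⟩
  have hcyc : IsCyclic (F ≃+* F) := Cfsg.Agent.LieRecognition.FieldSemilinear.isCyclic_ringAut F
  have hodd : ¬ 2 ∣ Nat.card A := by
    intro h
    have := Nat.dvd_gcd h h2
    rw [hA] at this
    omega
  let L : (GL (Fin n) F) →* MulAut (Matrix.ProjectiveSpecialLinearGroup (Fin n) F) := lift.comp cj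
  let f : (F ≃+* F) →* MulAut (Matrix.ProjectiveSpecialLinearGroup (Fin n) F) := lift.comp fld
  have hnorm : ∀ c, ∀ d ∈ L.range, f c * d * (f c)⁻¹ ∈ L.range := by
    rintro c _ ⟨B, rfl⟩
    obtain ⟨B', hB'⟩ := cj_norm_fld c ⟨B, rfl⟩
    refine ⟨B', ?_⟩
    change lift (cj B') = lift (fld c) * lift (cj B) * (lift (fld c))⁻¹
    rw [hB', map_mul, map_mul, map_inv]
  -- all elements of `A` are semilinear
  have hmem : ∀ (B : GL (Fin n) F) (σ : F ≃+* F), lift (cj B * fld σ) ∈ L.range ⊔ f.range := fun B σ => by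
    rw [map_mul]
    exact mul_mem ((le_sup_left : L.range ≤ _) ⟨B, rfl⟩) ((le_sup_right : f.range ≤ _) ⟨σ, rfl⟩)
  have hsemi : A ≤ L.range ⊔ f.range := by
    intro a ha
    have key : (∃ (B : GL (Fin n) F) (σ : F ≃+* F), a = lift (cj B * fld σ)) ∨
        ∃ (B : GL (Fin n) F) (σ : F ≃+* F), a = lift (cj B * fld σ * itr) := by
      rcases Nat.lt_or_ge n 3 with h | h
      · obtain rfl : n = 2 := by omega
        obtain ⟨B, σ, hB⟩ := surj_two p a
        exact Or.inl ⟨B, σ, hB⟩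
      · exact surj_three p h a
    rcases key with ⟨B, σ, hB⟩ | ⟨B, σ, hB⟩
    · rw [hB]; exact hmem B σ
    · -- the square is semilinear, the order is odd
      apply mem_of_sq_mem hodd ha
      have e : (cj B * fld σ * itr) * (cj B * fld σ * itr) =
          (cj B * fld σ) * (cj (ctr B) * fld σ : MulAut (Matrix.SpecialLinearGroup (Fin n) F)) := by
        have e1 := itr_mul_cj B
        have e2 := itr_mul_fld (ι := Fin n) σ
        have e3 := itr_mul_itr (ι := Fin n) (F := F)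
        calc (cj B * fld σ * itr) * (cj B * fld σ * itr)
            = cj B * fld σ * (itr * cj B) * fld σ * itr := by simp only [mul_assoc]
          _ = cj B * fld σ * cj (ctr B) * (itr * fld σ) * itr := by rw [e1]; simp only [mul_assoc]
          _ = cj B * fld σ * cj (ctr B) * fld σ * (itr * itr) := by rw [e2]; simp only [mul_assoc]
          _ = _ := by rw [e3, mul_one]; simp only [mul_assoc]
      rw [hB, ← map_mul, e, map_mul]
      exact mul_mem (hmem _ _) (hmem _ _)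
  refine isCyclic_of_split f L.range hnorm A hsemi ?_
  rintro x hx ⟨B, rfl⟩
  have h1 : L B ^ n ∈ (MulAut.conj : Matrix.ProjectiveSpecialLinearGroup (Fin n) F →* _).range := by
    have := pow_card_inner B
    rwa [Fintype.card_fin] at this
  have h3 : L B ^ Nat.card Fˣ ∈ (MulAut.conj : Matrix.ProjectiveSpecialLinearGroup (Fin n) F →* _).range :=
    pow_units_inner B
  have h4 : L B ^ Nat.gcd n (Nat.card Fˣ) ∈
      (MulAut.conj : Matrix.ProjectiveSpecialLinearGroup (Fin n) F →* _).range := by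
    have e : (L B) ^ (Nat.gcd n (Nat.card Fˣ) : ℤ) =
        ((L B) ^ n) ^ (Nat.gcdA n (Nat.card Fˣ)) * ((L B) ^ Nat.card Fˣ) ^ (Nat.gcdB n (Nat.card Fˣ)) := by
      rw [Nat.gcd_eq_gcd_ab, _root_.zpow_add, _root_.zpow_mul, _root_.zpow_mul, _root_.zpow_natCast, _root_.zpow_natCast]
    rw [_root_.zpow_natCast] at e
    rw [e]
    exact mul_mem (zpow_mem h1 _) (zpow_mem h3 _)
  refine eq_one_of_pow_inner hA hx (n := Nat.gcd n (Nat.card Fˣ)) ?_ h4
  intro r hr hd
  exact prime_dvd hn h2 hr (hd.trans (Nat.gcd_dvd_left _ _)) (hd.trans (Nat.gcd_dvd_right _ _))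

end Cfsg.Agent.H988.CopCyc.Psl
end

-- part: H988/CopCyc/Psu
section
/-!
# Coprime groups of automorphisms of `PSU n F q` are cyclic
-/

set_option autoImplicit false

namespace Cfsg.Agent.H988.CopCyc.Psu

open Cfsg Matrix Cfsg.Agent.H988.CopCyc Cfsg.Agent.Schreier.PSU Cfsg.Agent.LieClassical.HermSiegel
  Cfsg.Agent.ClassicalGeometry.PSUAutCount
open Cfsg.Agent.ClassicalGeometry.UnitAutBasic (pr pr_surjective)

variable {F : Type*} [Field F] {q n : ℕ}

theorem f₁_inner_of_det {A : GU n F q} (hdet : (gm A).det = 1) :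
    f₁ A ∈ (MulAut.conj : PSU n F q →* MulAut (PSU n F q)).range :=
  ⟨pr n F q (mkSU (gm A) hdet (fun u v => herm_gm _ u v)), (f₁_eq_conj A _ rfl).symm⟩

/-- Scalars of norm one. -/
theorem scalar_mem {c : Fˣ} (hc : (c : F) ^ (q + 1) = 1) :
    Matrix.GeneralLinearGroup.scalar (Fin n) c ∈ GU n F q := by
  intro u v
  change hermForm n F q (((Matrix.GeneralLinearGroup.scalar (Fin n) c : GL (Fin n) F) : Matrix (Fin n) (Fin n) F) *ᵥ u)
    (((Matrix.GeneralLinearGroup.scalar (Fin n) c : GL (Fin n) F) : Matrix (Fin n) (Fin n) F) *ᵥ v) = hermForm n F q u v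
  have h : ∀ w : Fin n → F, ((Matrix.GeneralLinearGroup.scalar (Fin n) c : GL (Fin n) F) :
      Matrix (Fin n) (Fin n) F) *ᵥ w = fun i => (c : F) * w i := by
    intro w
    funext i
    rw [Matrix.GeneralLinearGroup.coe_scalar, Matrix.scalar_apply, Matrix.mulVec_diagonal]
  rw [h, h]
  unfold hermForm
  refine Finset.sum_congr rfl fun i _ => ?_
  rw [mul_pow]
  calc (c : F) * u i * ((c : F) ^ q * v i ^ q) = (c : F) ^ (q + 1) * (u i * v i ^ q) := by ring
    _ = _ := by rw [hc, one_mul]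

theorem f₁_scalar {c : Fˣ} (hc : (c : F) ^ (q + 1) = 1) :
    f₁ (⟨Matrix.GeneralLinearGroup.scalar (Fin n) c, scalar_mem hc⟩ : GU n F q) = 1 := by
  ext x
  obtain ⟨g, rfl⟩ := pr_surjective x
  show toAut _ 1 (pr n F q g) = _
  rw [toAut_pr', MulAut.one_apply]
  congr 1
  apply ext_act
  intro x
  have h : ∀ w : Fin n → F, gm (⟨Matrix.GeneralLinearGroup.scalar (Fin n) c, scalar_mem hc⟩ : GU n F q) *ᵥ w =
      (c : F) • w := by
    intro w
    funext i
    change (((Matrix.GeneralLinearGroup.scalar (Fin n) c : GL (Fin n) F) : Matrix (Fin n) (Fin n) F) *ᵥ w) i = _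
    rw [Matrix.GeneralLinearGroup.coe_scalar, Matrix.scalar_apply, Matrix.mulVec_diagonal]
    rfl
  have hx : x = gm (⟨Matrix.GeneralLinearGroup.scalar (Fin n) c, scalar_mem hc⟩ : GU n F q) *ᵥ ((c : F)⁻¹ • x) := by
    rw [h, smul_smul, mul_inv_cancel₀ c.ne_zero, one_smul]
  rw [hx, act_semiConj_one, h, h, act_def, act_def, Matrix.mulVec_smul, Matrix.mulVec_smul, Matrix.mulVec_smul]

variable [Fintype F]

theorem pow_n_inner (hF : Fintype.card F = q ^ 2) (A : GU n F q) :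
    f₁ A ^ n ∈ (MulAut.conj : PSU n F q →* MulAut (PSU n F q)).range := by
  set u : Fˣ := Matrix.GeneralLinearGroup.det (A : GL (Fin n) F) with hu
  have hun : ((u⁻¹ : Fˣ) : F) ^ (q + 1) = 1 := by
    have h1 : (u : F) ^ (q + 1) = 1 :=
      Cfsg.Agent.ClassicalGeometry.GUBasic.det_pow hF (fun a b => herm_gm A a b)
    rw [Units.val_inv_eq_inv_val, inv_pow, h1, inv_one]
  set C : GU n F q := ⟨Matrix.GeneralLinearGroup.scalar (Fin n) u⁻¹, scalar_mem hun⟩ with hC
  have h2 : f₁ A ^ n = f₁ (A ^ n * C) := by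
    rw [map_mul, map_pow, hC, f₁_scalar hun, mul_one]
  rw [h2]
  apply f₁_inner_of_det
  have h3 : (gm A).det = (u : F) := rfl
  have h4 : (gm C).det = ((u⁻¹ : Fˣ) : F) ^ n := by
    change ((Matrix.GeneralLinearGroup.scalar (Fin n) u⁻¹ : GL (Fin n) F) : Matrix (Fin n) (Fin n) F).det = _
    rw [Matrix.GeneralLinearGroup.coe_scalar, Matrix.scalar_apply, Matrix.det_diagonal, Finset.prod_const,
      Finset.card_univ, Fintype.card_fin]
  have h5 : (gm (A ^ n)).det = (u : F) ^ n := by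
    have : ((A ^ n : GU n F q) : GL (Fin n) F) = (A : GL (Fin n) F) ^ n := rfl
    rw [gm_def, this, Units.val_pow_eq_pow_val, det_pow]
    rfl
  rw [gm_mul, det_mul, h5, h4, ← mul_pow, ← Units.val_mul, mul_inv_cancel, Units.val_one, one_pow]

theorem pow_q_inner (hF : Fintype.card F = q ^ 2) (A : GU n F q) :
    f₁ A ^ (q + 1) ∈ (MulAut.conj : PSU n F q →* MulAut (PSU n F q)).range := by
  rw [← map_pow]
  apply f₁_inner_of_det
  have h1 : (gm A).det ^ (q + 1) = 1 :=
    Cfsg.Agent.ClassicalGeometry.GUBasic.det_pow hF (fun a b => herm_gm A a b)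
  have : ((A ^ (q + 1) : GU n F q) : GL (Fin n) F) = (A : GL (Fin n) F) ^ (q + 1) := rfl
  rw [gm_def, this, Units.val_pow_eq_pow_val, det_pow]
  exact h1

/-- A prime dividing `n` and `q + 1` divides `|PSU n F q|`. -/
theorem prime_dvd (hF : Fintype.card F = q ^ 2) (hn : 3 ≤ n) (h32 : ¬ (n = 3 ∧ q = 2)) {r : ℕ}
    (hr : r.Prime) (h1 : r ∣ n) (h3 : r ∣ q + 1) : r ∣ Nat.card (PSU n F q) := by
  have : Fact r.Prime := ⟨hr⟩
  have hq1 : 1 < q := by
    by_contra h
    have : q ^ 2 ≤ 1 := by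
      interval_cases q <;> norm_num
    have h2 : 1 < Fintype.card F := Fintype.one_lt_card
    omega
  have hcard : r ∣ Nat.card Fˣ := by
    rw [Nat.card_units, Nat.card_eq_fintype_card, hF]
    have e : q ^ 2 - 1 = (q + 1) * (q - 1) := by
      obtain ⟨t, rfl⟩ : ∃ t, q = t + 1 := ⟨q - 1, by omega⟩
      rw [Nat.add_sub_cancel]
      exact Nat.sub_eq_of_eq_add (by ring)
    rw [e]
    exact h3.mul_right _
  obtain ⟨z, hz⟩ := exists_prime_orderOf_dvd_card' r hcard
  have h4 : z ^ r = 1 := by rw [← hz]; exact pow_orderOf_eq_one z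
  have h5 : (z : F) ^ r = 1 := congrArg Units.val h4
  have hdet : (Matrix.scalar (Fin n) (z : F)).det = 1 := by
    rw [Matrix.scalar_apply, Matrix.det_diagonal, Finset.prod_const, Finset.card_univ, Fintype.card_fin]
    obtain ⟨m, rfl⟩ := h1
    rw [pow_mul, h5, one_pow]
  have hzq : (z : F) ^ (q + 1) = 1 := by
    obtain ⟨m, hm⟩ := h3
    rw [hm, pow_mul, h5, one_pow]
  have hherm : ∀ u v, hermForm n F q (Matrix.scalar (Fin n) (z : F) *ᵥ u) (Matrix.scalar (Fin n) (z : F) *ᵥ v) =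
      hermForm n F q u v := fun u v => scalar_mem hzq u v
  let s : SU n F q := mkSU (Matrix.scalar (Fin n) (z : F)) hdet hherm
  have hs : s ∈ Subgroup.center (SU n F q) := by
    rw [Subgroup.mem_center_iff]
    intro g
    apply Subtype.ext
    apply Subtype.ext
    exact ((scalar_commute (n := Fin n) (z : F) (Commute.all _) (mat g)).symm)
  have hsr : orderOf s = r := by
    apply orderOf_eq_prime
    · apply Subtype.ext
      apply Subtype.ext
      change ((s ^ r : SU n F q) : Matrix.SpecialLinearGroup (Fin n) F).1 = 1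
      rw [Subgroup.coe_pow, Matrix.SpecialLinearGroup.coe_pow]
      change (Matrix.scalar (Fin n) (z : F)) ^ r = 1
      rw [← map_pow, h5, map_one]
    · intro h4
      have h5 : Matrix.scalar (Fin n) (z : F) = 1 := congrArg (fun x : SU n F q => mat x) h4
      have h6 := congrFun (congrFun h5 ⟨0, by omega⟩) ⟨0, by omega⟩
      rw [Matrix.scalar_apply, Matrix.diagonal_apply_eq, Matrix.one_apply_eq] at h6
      have h7 : z = 1 := Units.ext h6
      rw [h7, orderOf_one] at hz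
      exact hr.one_lt.ne hz
  have h6 := dvd_of_center (G := SU n F q)
    (Cfsg.Agent.LieClassical.HermPerfect.commutator_SU_eq_top hF hn h32) s hs
  rw [hsr] at h6
  exact h6

/-- **Coprime groups of automorphisms of `PSU n F q` are cyclic.** -/
theorem cc (hF : Fintype.card F = q ^ 2) (hn : 3 ≤ n) (h32 : ¬ (n = 3 ∧ q = 2)) : CC (PSU n F q) := by
  intro A hA
  have hcyc : IsCyclic (F ≃+* F) := Cfsg.Agent.LieRecognition.FieldSemilinear.isCyclic_ringAut F
  refine isCyclic_of_split (f₂ (F := F) (q := q) (n := n)) f₁.range ?_ A ?_ ?_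
  · rintro ρ _ ⟨B, rfl⟩
    exact ⟨_, (conj_field ρ B).symm⟩
  · intro a _
    obtain ⟨B, ρ, h⟩ := Cfsg.Agent.ClassicalGeometry.PSUAutMain.exists_toAut hF hn h32 a
    rw [h, toAut_eq]
    exact mul_mem ((le_sup_left : f₁.range ≤ _) ⟨B, rfl⟩) ((le_sup_right : f₂.range ≤ _) ⟨ρ, rfl⟩)
  · rintro x hx ⟨B, rfl⟩
    have h4 : f₁ B ^ Nat.gcd n (q + 1) ∈ (MulAut.conj : PSU n F q →* MulAut (PSU n F q)).range := by
      have e : (f₁ B) ^ (Nat.gcd n (q + 1) : ℤ) =
          ((f₁ B) ^ n) ^ (Nat.gcdA n (q + 1)) * ((f₁ B) ^ (q + 1)) ^ (Nat.gcdB n (q + 1)) := by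
        rw [Nat.gcd_eq_gcd_ab, _root_.zpow_add, _root_.zpow_mul, _root_.zpow_mul, _root_.zpow_natCast,
          _root_.zpow_natCast]
      rw [_root_.zpow_natCast] at e
      rw [e]
      exact mul_mem (zpow_mem (pow_n_inner hF B) _) (zpow_mem (pow_q_inner hF B) _)
    refine eq_one_of_pow_inner hA hx (n := Nat.gcd n (q + 1)) ?_ h4
    intro r hr hd
    exact prime_dvd hF hn h32 hr (hd.trans (Nat.gcd_dvd_left _ _)) (hd.trans (Nat.gcd_dvd_right _ _))

end Cfsg.Agent.H988.CopCyc.Psu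
end
end

-- part: H988/CopCyc/Sum
section
set_option linter.all false
open scoped Cfsg.Agent.FastGrp

-- part: H988/CopCyc/Alt
section
/-!
# Coprime groups of automorphisms of alternating groups
-/

set_option autoImplicit false

namespace Cfsg.Agent.H988.CopCyc.Alt

open Cfsg Cfsg.Agent.H988.CopCyc

theorem cc_seven {n : ℕ} (hn : 7 ≤ n) (h2 : 2 ∣ Nat.card (alternatingGroup (Fin n))) :
    CC (alternatingGroup (Fin n)) := by
  obtain ⟨ψ, hψ⟩ := Cfsg.Agent.StandardComponent.AltAut.exists_autHom n hn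
  intro A hA
  have h1 : ∀ a ∈ A, a = 1 := by
    intro a ha
    refine eq_one_of_pow_inner (n := 2) hA ha ?_ ?_
    · intro r hr hd
      rw [(Nat.prime_dvd_prime_iff_eq hr Nat.prime_two).1 hd]
      exact h2
    · have h3 : Equiv.Perm.sign (ψ (a ^ 2)) = 1 := by
        rw [map_pow, map_pow]
        exact Int.units_sq _
      refine ⟨⟨ψ (a ^ 2), Equiv.Perm.mem_alternatingGroup.2 h3⟩, ?_⟩
      apply MulEquiv.ext
      intro x
      apply Subtype.ext
      rw [hψ (a ^ 2), MulAut.conj_apply]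
      rfl
  have : Subsingleton A := ⟨fun a b => Subtype.ext ((h1 a a.2).trans (h1 b b.2).symm)⟩
  infer_instance

theorem cc {n : ℕ} (hn : 5 ≤ n) (h2 : 2 ∣ Nat.card (alternatingGroup (Fin n))) :
    CC (alternatingGroup (Fin n)) := by
  by_cases h7 : 7 ≤ n
  · exact cc_seven h7 h2
  have h56 : n = 5 ∨ n = 6 := by omega
  rcases h56 with rfl | rfl
  · have : Fact (Nat.Prime 5) := ⟨by norm_num⟩
    obtain ⟨e⟩ := Cfsg.Agent.S0253.result (F := ZMod 5) (by rw [ZMod.card])
    refine CC.of_equiv e (Psl.cc le_rfl ?_)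
    rw [Nat.card_congr e.toEquiv]
    exact h2
  · have : Fact (Nat.Prime 3) := ⟨by norm_num⟩
    have : Fintype (GaloisField 3 2) := Fintype.ofFinite _
    obtain ⟨e⟩ := Cfsg.Agent.S0254.result (F := GaloisField 3 2) (by
      rw [← Nat.card_eq_fintype_card, GaloisField.card 3 2 (by norm_num)]; norm_num)
    refine CC.of_equiv e (Psl.cc le_rfl ?_)
    rw [Nat.card_congr e.toEquiv]
    exact h2

end Cfsg.Agent.H988.CopCyc.Alt
end

-- part: H988/CopCyc/Psp
section
/-!
# Coprime groups of automorphisms of `PSp m F` are cyclic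
-/

set_option autoImplicit false

namespace Cfsg.Agent.H988.CopCyc.Psp

open Cfsg Cfsg.Agent.H988.CopCyc Cfsg.Agent.Schreier.ClassPSp
open Cfsg.Agent.ClassicalGeometry.SympAutSemi

section general

variable {m : ℕ} {F : Type*} [Field F]

/-- Multiplication by a scalar. -/
def scalP (m : ℕ) {F : Type*} [Field F] {l : F} (hl : l ≠ 0) : Equiv.Perm (Fin m ⊕ Fin m → F) where
  toFun v := l • v
  invFun v := l⁻¹ • v
  left_inv v := by
    change l⁻¹ • l • v = v
    rw [smul_smul, inv_mul_cancel₀ hl, one_smul]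
  right_inv v := by
    change l • l⁻¹ • v = v
    rw [smul_smul, mul_inv_cancel₀ hl, one_smul]

theorem scalP_apply {l : F} (hl : l ≠ 0) (v : Fin m ⊕ Fin m → F) : scalP m hl v = l • v := rfl

theorem isSemi_scalP {l : F} (hl : l ≠ 0) : IsSemi (scalP m hl) (RingEquiv.refl F) (l * l) := by
  refine ⟨fun u v => smul_add l u v, fun a v => ?_, fun u v => ?_⟩
  · rw [scalP_apply, scalP_apply, smul_comm]; rfl
  · rw [scalP_apply, scalP_apply, Cfsg.Agent.ClassicalGeometry.SympBasic.sympForm_smul_left,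
      Cfsg.Agent.ClassicalGeometry.SympBasic.sympForm_smul_right, ← mul_assoc]
    rfl

theorem Psi_scalP {l : F} (hl : l ≠ 0) (h : scalP m hl ∈ semiSim m F) : Psi m F ⟨scalP m hl, h⟩ = 1 := by
  apply MulEquiv.ext
  intro x
  obtain ⟨A, rfl⟩ := QuotientGroup.mk_surjective x
  rw [Psi_mk, MulAut.one_apply]
  congr 1
  apply rho_injective
  rw [rho_conjHom]
  apply Equiv.ext
  intro v
  obtain ⟨w, rfl⟩ := (scalP m hl).surjective v
  have h1 : (scalP m hl)⁻¹ (scalP m hl w) = w := perm_inv_apply_self _ _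
  rw [Equiv.Perm.mul_apply, Equiv.Perm.mul_apply, h1, scalP_apply, scalP_apply, (isSemi_rho A).2.1]
  rfl

/-- The square of a similitude is inner. -/
theorem sq_inner (g : semiSim m F) {l : F} (hl : l ≠ 0) (hg : IsSemi g.1 (RingEquiv.refl F) l) :
    Psi m F g ^ 2 ∈ (MulAut.conj : PSp m F →* MulAut (PSp m F)).range := by
  have hli : l⁻¹ ≠ 0 := inv_ne_zero hl
  have hs : scalP m hli ∈ semiSim m F := ⟨_, _, mul_ne_zero hli hli, isSemi_scalP hli⟩
  have h1 : Psi m F g ^ 2 = Psi m F (g * g * ⟨scalP m hli, hs⟩) := by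
    rw [map_mul, map_mul, Psi_scalP hli hs, mul_one, pow_two]
  rw [h1]
  apply Psi_isom
  have h2 := (hg.mul hg).mul (isSemi_scalP hli (m := m))
  have h3 : l * (RingEquiv.refl F) l * ((RingEquiv.refl F).trans (RingEquiv.refl F)) (l⁻¹ * l⁻¹) = 1 := by
    change l * l * (l⁻¹ * l⁻¹) = 1
    field_simp
  rw [h3] at h2
  exact h2

end general

variable {m : ℕ} {F : Type*} [Field F] [Finite F]

/-- **Coprime groups of automorphisms of `PSp m F` are cyclic.** -/
theorem cc (hm : 2 ≤ m) (h22 : m = 2 → 3 ≤ Nat.card F) (h2 : 2 ∣ Nat.card (PSp m F)) : CC (PSp m F) := by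
  intro A hA
  have := Fintype.ofFinite F
  have hcyc : IsCyclic (F ≃+* F) := Cfsg.Agent.LieRecognition.FieldSemilinear.isCyclic_ringAut F
  have hfin : Finite (PSp m F) := by
    unfold PSp
    infer_instance
  have hodd : ¬ 2 ∣ Nat.card A := by
    intro h
    have := Nat.dvd_gcd h h2
    rw [hA] at this
    omega
  have hB : ∀ α : MulAut (PSp m F), Cfsg.Agent.ClassicalGeometry.AutPSpCount.Pres α →
      α ∈ (Psi m F).range := by
    intro α hα
    obtain ⟨g, hg⟩ := Cfsg.Agent.ClassicalGeometry.SympAutExists.exists_semi hm α hα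
    exact ⟨g, hg⟩
  have hA' : A ≤ (Psi m F).range := by
    by_cases hcase : m = 2 ∧ (2 : F) = 0
    · obtain ⟨rfl, h20⟩ := hcase
      have hchar : CharP F 2 := by
        obtain ⟨p, hp⟩ := CharP.exists F
        have h3 : p ∣ 2 := (CharP.cast_eq_zero_iff F p 2).1 (by exact_mod_cast h20)
        have h4 : p.Prime := CharP.char_is_prime F p
        rwa [(Nat.prime_dvd_prime_iff_eq h4 Nat.prime_two).1 h3] at hp
      have ht : ∃ t : F, t ≠ 0 ∧ t ≠ 1 := by
        by_contra hcon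
        push Not at hcon
        have h3 : Fintype.card F ≤ 2 := by
          classical
          have : (Finset.univ : Finset F) ⊆ {0, 1} := by
            intro t _
            by_cases h0 : t = 0
            · simp only [h0, _root_.Finset.mem_insert, _root_.Finset.mem_singleton, _root_.zero_ne_one, _root_.or_false]
            · simp only [hcon t h0, _root_.Finset.mem_insert, _root_.one_ne_zero, _root_.Finset.mem_singleton, _root_.or_true]
          exact (Finset.card_le_card this).trans (Finset.card_le_two)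
        have h4 := h22 rfl
        rw [Nat.card_eq_fintype_card] at h4
        omega
      have hidx := Cfsg.Agent.ClassicalGeometry.SympAutTwo.index_two ht hB
      intro a ha
      exact mem_of_sq_mem hodd ha (Subgroup.mul_self_mem_of_index_two hidx a)
    · intro α _
      apply hB
      refine Cfsg.Agent.ClassicalGeometry.SympAutOddA.recog hm ?_ α
      by_cases hm2 : m = 2
      · right
        intro h2
        exact hcase ⟨hm2, h2⟩
      · left; omega
  refine isCyclic_of_rel (Psi m F) (fun g φ => ∃ l : F, l ≠ 0 ∧ IsSemi g.1 φ l) ?_ ?_ ?_ ?_ A hA' ?_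
  · rintro ⟨g, φ, l, hl, hg⟩
    exact ⟨φ, l, hl, hg⟩
  · exact ⟨1, one_ne_zero, fun _ _ => rfl, fun _ _ => rfl, fun _ _ => by rw [one_mul]; rfl⟩
  · rintro g h φ ψ ⟨l, hl, hg⟩ ⟨k, hk, hh⟩
    exact ⟨l * φ k, mul_ne_zero hl (by simpa using hk), hg.mul hh⟩
  · rintro g φ ⟨l, hl, hg⟩
    exact ⟨φ.symm l⁻¹, by simpa using hl, hg.inv hl⟩
  · rintro g ⟨l, hl, hg⟩ hgA
    refine eq_one_of_pow_inner hA hgA (n := 2) ?_ (sq_inner g hl hg)
    intro r hr hd
    rwa [(Nat.prime_dvd_prime_iff_eq hr Nat.prime_two).1 hd]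

end Cfsg.Agent.H988.CopCyc.Psp
end

-- part: H988/CopCyc/Rgd
section
/-!
# Coprime groups of automorphisms of a group with a root group datum
-/

set_option autoImplicit false
set_option linter.unusedSectionVars false

namespace Cfsg.Agent.H988.CopCyc.Rgd

open CoxeterSystem Cfsg.Agent.ChevalleyStructure.CoxeterGeom Cfsg.Agent.Tits.Roots Cfsg.Agent.Tits.Core
  Cfsg.Agent.Tits.Exchange Cfsg.Agent.Nodes.Reps Cfsg.Agent.Nodes.BNOf Cfsg.Agent.Nodes.StabComb
  Cfsg.Agent.Nodes.Bruhat Cfsg.Agent.Nodes.OppDec Cfsg.Agent.Nodes.LeviDec Cfsg.Agent.Nodes.NormalForm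
  Cfsg.Agent.KFacts.RgdOpp Cfsg.Agent.KFacts.RgdAut Cfsg.Agent.KFacts.RgdDiag Cfsg.Agent.KFacts.RgdRigid
  Cfsg.Agent.KFacts.RgdField Cfsg.Agent.H69.OutCount Cfsg.Agent.H988.CopCyc

universe u v

variable {I W : Type*} {Y : Type u} [Fintype I] [DecidableEq I] [Group W] [Group Y] {M : CoxeterMatrix I}
  {cs : CoxeterSystem M W} {A : I → I → ℤ} {h : IsCartan M A} {p : ℕ} {T : Subgroup Y} {n : I → Y}
  {X : (I → ℤ) → Subgroup Y}

/-- Powers of a frame automorphism acting by scalars. -/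
theorem pow_apply {K : I → Type v} [∀ i, Field (K i)] {x : ∀ i, K i → Y} {β : MulAut Y} {i : I} {c : K i}
    (hc : ∀ a, β (x i a) = x i (c * a)) (k : ℕ) (a : K i) : (β ^ k) (x i a) = x i (c ^ k * a) := by
  induction k generalizing a with
  | zero => rw [pow_zero, pow_zero, one_mul]; rfl
  | succ k ih => rw [pow_succ, MulAut.mul_apply, hc, ih, pow_succ, mul_assoc]

theorem diag_pow {β : MulAut Y} (D : Diag T X β 1) (k : ℕ) : Diag T X (β ^ k) 1 := by
  induction k with
  | zero => rw [pow_zero]; exact Diag.one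
  | succ k ih =>
    rw [pow_succ]
    have := ih.mul D
    rwa [mul_one] at this

/-- **Coprime groups of automorphisms of a group with a root group datum are cyclic.** -/
theorem cc_of_rel (R : RGD cs h p T n X) [Finite W] [Finite Y] [Fact p.Prime]
    (hG1 : RGD.Sup X {x | IsRoot cs h x} = ⊤)
    (hone : ∀ (β : MulAut Y) (σ : Equiv.Perm I), Diag T X β σ → σ = 1)
    {Γ : Type v} [Group Γ] [Finite Γ] [IsCyclic Γ] {Rel : MulAut Y → Γ → Prop}
    (hex : ∀ β, Diag T X β 1 → ∃ τ, Rel β τ) (hmem : ∀ β τ, Rel β τ → Diag T X β 1)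
    (hmul : ∀ β τ β' τ', Rel β τ → Rel β' τ' → Rel (β * β') (τ * τ'))
    {K : I → Type v} [∀ i, Field (K i)] {x : ∀ i, K i → Y} {χ : ∀ i, Y → K i}
    (C : ∀ i, Coord T (X (sr i)) (x i) (χ i))
    (hQ : ∀ β, Rel β 1 → ∀ i, ∃ c : K i, c ≠ 0 ∧ ∀ a, β (x i a) = x i (c * a))
    (N : ℕ) (hN : ∀ i (c : K i), c ≠ 0 → c ^ N = 1) (hp : ∀ r : ℕ, r.Prime → r ∣ N → r ∣ Nat.card Y) : CC Y := by
  intro B hB
  have hn : ((MulAut.conj : Y →* MulAut Y).range).Normal := by
    constructor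
    rintro _ ⟨k, rfl⟩ φ
    refine ⟨φ k, ?_⟩
    ext x
    simp only [MulAut.conj_apply, _root_.MulAut.mul_apply, _root_.MulAut.inv_apply, _root_.map_mul, _root_.MulEquiv.apply_symm_apply, _root_.map_inv]
  have hfin : Finite (MulAut Y) := inferInstance
  let π := QuotientGroup.mk' (MulAut.conj : Y →* MulAut Y).range
  refine isCyclic_of_out B hB π (fun α hα => (QuotientGroup.eq_one_iff _).1 hα) ?_
  refine isCyclic_of_rel_fin (π.comp (A0 T X).subtype) (fun β τ => Rel β.1 τ) (fun β => hex β.1 β.2)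
    (fun g h c d hg hh => hmul _ _ _ _ hg hh) (B.map π) ?_ ?_
  · rintro _ ⟨α, hα, rfl⟩
    obtain ⟨g, σ, D⟩ := exists_diag_conj R hG1 α
    have h1 := hone _ _ D
    subst h1
    refine ⟨⟨_, D⟩, ?_⟩
    show π (MulAut.conj g * α) = π α
    rw [map_mul]
    have : π (MulAut.conj g) = 1 := (QuotientGroup.eq_one_iff _).2 ⟨g, rfl⟩
    rw [this, one_mul]
  · rintro ⟨β, hβ⟩ hβ1 hβB
    have hβ1' : Rel β 1 := hβ1
    have h1 : β ^ N = 1 := by
      apply Diag.eq_one R hG1 (diag_pow hβ N)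
      intro i y hy
      obtain ⟨a, rfl⟩ := ((C i).mem y).1 hy
      obtain ⟨c, hc, e⟩ := hQ β hβ1' i
      rw [pow_apply e, hN i c hc, one_mul]
    obtain ⟨b, hb, hbβ⟩ := hβB
    have hbβ' : π b = π β := hbβ
    have h2 : b ^ N ∈ (MulAut.conj : Y →* MulAut Y).range := by
      rw [← QuotientGroup.eq_one_iff]
      show π (b ^ N) = 1
      rw [map_pow, hbβ', ← map_pow, h1, map_one]
    have h3 := eq_one_of_pow_inner hB hb hp h2
    show π β = 1
    rw [← hbβ', h3, map_one]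

end Cfsg.Agent.H988.CopCyc.Rgd
end

-- part: H988/CopCyc/Tw
section
/-!
# Coprime groups of automorphisms of `³D₄(q)` and `²E₆(q)` are cyclic
-/

set_option autoImplicit false
set_option linter.unusedSectionVars false
set_option maxHeartbeats 400000

namespace Cfsg.Agent.H988.CopCyc.Tw

open CoxeterSystem Cfsg.Agent.ChevalleyStructure.CoxeterGeom Cfsg.Agent.Tits.Roots Cfsg.Agent.Tits.Core
  Cfsg.Agent.Tits.Exchange Cfsg.Agent.Nodes.Reps Cfsg.Agent.Nodes.BNOf Cfsg.Agent.Nodes.StabComb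
  Cfsg.Agent.Nodes.Bruhat Cfsg.Agent.Nodes.OppDec Cfsg.Agent.Nodes.RGDTwGen Cfsg.Agent.Nodes.RGDChev
  Cfsg.Agent.Nodes.RGDFold Cfsg.Agent.Nodes.RGDFoldSL
open Cfsg.Agent.KFacts.RgdOpp Cfsg.Agent.KFacts.RgdAut Cfsg.Agent.KFacts.RgdDiag Cfsg.Agent.KFacts.RgdRigid
  Cfsg.Agent.KFacts.RgdField Cfsg.Agent.KFacts.RgdTau Cfsg.Agent.KFacts.RgdNodes
open Cfsg.Lie Cfsg.Agent.ChevalleyStructure Cfsg.Agent.H988.CopCyc

universe u

/-- The units of a subfield have exponent `|K| - 1`. -/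
theorem pow_subfield {K : Type*} [Field K] [Fintype K] (F : Subfield K) (c : F) (hc : c ≠ 0) :
    c ^ (Fintype.card K - 1) = 1 := by
  apply Subtype.ext
  have h1 : (c : K) ≠ 0 := fun h => hc (Subtype.ext h)
  have h2 := FiniteField.pow_card_sub_one_eq_one (c : K) h1
  exact h2

section D4

open Cfsg.Agent.KFacts.TwDFour.Out
open Cfsg.Agent.Nodes.RGDTwD4 Cfsg.Agent.Nodes.RGDTwNode.D4
open Cfsg.Agent.ParSys.Fam.D4 (hf)
open Cfsg.Agent.H69.OutCount Cfsg.Agent.H69.OutTwD4

variable {K : Type u} [Field K] [Fintype K] {q : ℕ}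

/-- **Coprime groups of automorphisms of `³D₄(q)` are cyclic.** -/
theorem cc_D4 (hq : IsPrimePow q) (hK : Fintype.card K = q ^ 3) (p : ℕ) [Fact p.Prime] [CharP K p] :
    CC ↥(twistedD4 K q) := by
  obtain ⟨φ, hφ⟩ := D4Fixed.exists_frob hq hK
  let cs : CoxeterSystem CoxeterMatrix.G₂ CoxeterMatrix.G₂.Group := CoxeterMatrix.G₂.toCoxeterSystem
  have hfin : Finite CoxeterMatrix.G₂.Group := finiteW cs
  have R := Cfsg.Agent.Nodes.RGDTwD4.rgd cs hK hφ p
  have hG1 : RGD.Sup (X φ q) {x | IsRoot cs isCartan x} = ⊤ := _root_.Cfsg.Agent.Nodes.RGDTwD4.G1_eq_top cs hK hφ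
  have hcyc : IsCyclic (K ≃+* K) := Cfsg.Agent.LieRecognition.FieldSemilinear.isCyclic_ringAut K
  have hfK : Finite (K ≃+* K) := Finite.of_injective (fun e : K ≃+* K => (e : K → K)) DFunLike.coe_injective
  have hT := card_T hq hK
  refine Rgd.cc_of_rel R hG1 (fun β σ D => by
      apply perm_G2 σ
      intro h3
      have h4 := Diag.card_eq D 0
      rw [h3] at h4
      exact card_ne hφ hK hq.one_lt h4) (Γ := K ≃+* K) (Rel := DTau hφ hK)
    (fun β D => exists_dtau hφ hK cs p D) (fun β τ S => S.diag)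
    (fun β τ β' τ' S S' => S.mul hφ hK S') (coordD hφ hK) ?_ (Fintype.card K - 1)
    (fun i c hc => pow_subfield _ c hc) ?_
  · intro β S i
    have hS : NTau (T K q) (X φ q) (chD hφ hK) β 1 := ⟨S.diag, fun i t ht => Subtype.ext (S.char i t ht)⟩
    obtain ⟨c, hc, e⟩ := NTau.semi (coordD hφ hK) hS i
    exact ⟨c, hc, fun a => e a⟩
  · intro r hr hd
    rw [hK] at hd
    refine (hd.trans (Dvd.intro _ hT.symm)).trans (Subgroup.card_subgroup_dvd_card _)

end D4

section E6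

open Cfsg.Agent.KFacts.TwESix.NodeCoord Cfsg.Agent.KFacts.TwESix.Out Cfsg.Agent.KFacts.TwESix.OutTwo
open Cfsg.Agent.Nodes.RGDTwE6 Cfsg.Agent.Nodes.RGDTwNode.E6
open Cfsg.Agent.ChevalleyStructure.TwE6Basic (hE6 exists_frob)

variable {K : Type u} [Field K] [Fintype K] {q : ℕ}

/-- **Coprime groups of automorphisms of `²E₆(q)` are cyclic.** -/
theorem cc_E6 (hq : IsPrimePow q) (hK : Fintype.card K = q ^ 2) (p : ℕ) [Fact p.Prime] [CharP K p] :
    CC ↥(twistedE6 K q) := by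
  obtain ⟨φ, hφ, hqq⟩ := exists_frob hq hK
  let cs : CoxeterSystem CoxeterMatrix.F₄ CoxeterMatrix.F₄.Group := CoxeterMatrix.F₄.toCoxeterSystem
  have hfin : Finite CoxeterMatrix.F₄.Group :=
    Cfsg.Agent.Nodes.RGDFold.finite_W (hp := Cfsg.Agent.Nodes.RGDTwE6.hp) CoxeterMatrix.F₄.toCoxeterSystem
      Cfsg.Agent.Nodes.RGDTwE6.isCartan Cfsg.Agent.Nodes.RGDTwE6.foldData
  have R := Cfsg.Agent.Nodes.RGDTwE6.rgd cs hφ hqq p
  have hG1 : RGD.Sup (X φ q) {x | IsRoot cs isCartan x} = ⊤ := G1_top cs hφ hqq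
  have hcyc : IsCyclic (K ≃+* K) := Cfsg.Agent.LieRecognition.FieldSemilinear.isCyclic_ringAut K
  have hfK : Finite (K ≃+* K) := Finite.of_injective (fun e : K ≃+* K => (e : K → K)) DFunLike.coe_injective
  refine Rgd.cc_of_rel R hG1 (fun β σ D => by
      apply perm_F4 σ (D.matrix R)
      intro h3
      have h4 := Diag.card_eq D 0
      rw [h3] at h4
      exact card_ne hφ hqq hK hq.one_lt h4) (Γ := K ≃+* K) (Rel := FTau hφ hqq)
    (fun β D => exists_ftau hφ hqq cs p D) (fun β τ S => S.diag)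
    (fun β τ β' τ' S S' => S.mul hφ hqq S') (coordE hφ hqq) ?_ (Fintype.card K - 1)
    (fun i c hc => pow_subfield _ c hc) ?_
  · intro β S i
    have hS : NTau (T K q) (X φ q) (chE hφ hqq) β 1 := ⟨S.diag, fun i t ht => Subtype.ext (S.char i t ht)⟩
    obtain ⟨c, hc, e⟩ := NTau.semi (coordE hφ hqq) hS i
    exact ⟨c, hc, fun a => e a⟩
  · intro r hr hd
    rw [hK] at hd
    have h3 : Nat.card ↥(T K q) = Nat.card ↥(chevE6.diagonalSubgroup K ⊓ twistedE6 K q) :=
      Nat.card_congr (Subgroup.subgroupOfEquivOfLe inf_le_right).toEquiv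
    have h4 := Cfsg.Agent.S1102.result (K := K) hq hK
    rw [← h3] at h4
    refine dvd_trans ?_ (Subgroup.card_subgroup_dvd_card (T K q))
    -- `(q - 1)(q + 1)` divides `|T|`
    obtain ⟨e, he⟩ : Nat.gcd 3 (q + 1) ∣ q + 1 := Nat.gcd_dvd_right _ _
    have hg0 : 0 < Nat.gcd 3 (q + 1) := Nat.gcd_pos_of_pos_left _ (by norm_num)
    have h5 : Nat.card ↥(T K q) = e * ((q - 1) ^ 4 * (q + 1)) := by
      apply Nat.eq_of_mul_eq_mul_left hg0
      rw [h4]
      calc (q - 1) ^ 4 * (q + 1) ^ 2 = (q - 1) ^ 4 * (q + 1) * (q + 1) := by ring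
        _ = (q - 1) ^ 4 * (q + 1) * (Nat.gcd 3 (q + 1) * e) := by rw [← he]
        _ = _ := by ring
    have h6 : q ^ 2 - 1 = (q - 1) * (q + 1) := by
      have := Nat.sq_sub_sq q 1
      rw [one_pow] at this
      rw [this, mul_comm]
    rw [h6] at hd
    rw [h5]
    refine hd.trans (Dvd.dvd.mul_left ?_ e)
    exact mul_dvd_mul (dvd_pow_self _ (by norm_num)) dvd_rfl

end E6

end Cfsg.Agent.H988.CopCyc.Tw
end

-- part: H988/CopCyc/RankOne
section
/-!
# Coprime groups of automorphisms of `Sz(q)`, `²G₂(q)`, `²F₄(q)` are cyclic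
-/

set_option autoImplicit false

namespace Cfsg.Agent.H988.CopCyc.RankOne

open Cfsg Cfsg.Lie Cfsg.Agent.H988.CopCyc

/-- `Sz(2^(2m+1))` -/
theorem cc_sz {F : Type*} [Field F] [Fintype F] {m : ℕ} (hm : 1 ≤ m) (hF : Fintype.card F = 2 ^ (2 * m + 1)) :
    CC ↥(Cfsg.Lie.Sz F (2 ^ (m + 1))) := by
  have h8 : 8 ≤ Nat.card F := by
    rw [Nat.card_eq_fintype_card, hF]
    exact Cfsg.Agent.ThreePrime.SzRel.Rel.eight_le hm
  obtain ⟨S, hS⟩ := Cfsg.Agent.H70.SzOut.exists_sylow hm hF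
  have hcyc : IsCyclic (F ≃+* F) := Cfsg.Agent.LieRecognition.FieldSemilinear.isCyclic_ringAut F
  refine CC.of_surj (Cfsg.Agent.H70.SzOut.fieldAut (Cfsg.Agent.LieRecognition.SzMatrix.good hF)) fun ψ => ?_
  obtain ⟨g, hg⟩ := Cfsg.Agent.H70.SzOut.exists_fix
    (Cfsg.Agent.ThreePrime.SzRel.ofGood (Cfsg.Agent.LieRecognition.SzMatrix.good hF)) S hS ψ
  obtain ⟨σ, k, hσ⟩ := Cfsg.Agent.H70.SzOut.eq_of_fix h8 (Cfsg.Agent.LieRecognition.SzMatrix.good hF) hg
  refine ⟨g⁻¹ * (Cfsg.Agent.LieRecognition.SzMatrix.good hF).d k, σ, ?_⟩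
  rw [map_mul, mul_assoc, ← hσ, map_inv]
  group

section Ree

open Cfsg.Agent.S2127 Cfsg.Agent.H71 Cfsg.Agent.ChevalleyStructure.Ree Cfsg.Agent.ChevStructure.FieldMap
  Cfsg.Agent.ChevalleyStructure.Ree.Gens Cfsg.Agent.ChevalleyStructure.Ree.Checks Cfsg.Agent.ChevalleyStructure.Ree.Normal
  Cfsg.Agent.LieRecognition

/-- `²G₂(3^(2m+1))` -/
theorem cc_ree {K : Type*} [Field K] [Fintype K] {m : ℕ} (hm : 1 ≤ m) (hK : Fintype.card K = 3 ^ (2 * m + 1)) :
    CC ↥(Cfsg.Lie.twistedG2 K (3 ^ m)) := by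
  obtain ⟨θ, c⟩ := exists_ctx hK
  have hfin : Finite ↥(Cfsg.Lie.twistedG2 K (3 ^ m)) := inferInstance
  have F : ReeOut.Fld (Data.data c) (fun τ => S2127.fld τ (3 ^ m)) := by
    refine ⟨?_, ?_, ?_⟩
    · intro τ t u v
      apply Subtype.ext
      rw [S2127.coe_fld]
      exact glE_wU τ _ _ _ _
    · intro τ a
      apply Subtype.ext
      rw [S2127.coe_fld]
      exact glE_tU τ _ _
    · intro τ
      apply Subtype.ext
      rw [S2127.coe_fld]
      exact glE_nU τ
  have hcyc : IsCyclic (K ≃+* K) := Cfsg.Agent.LieRecognition.FieldSemilinear.isCyclic_ringAut K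
  let f : (K ≃+* K) →* MulAut ↥(Cfsg.Lie.twistedG2 K (3 ^ m)) :=
    MonoidHom.mk' (fun τ => S2127.fld τ (3 ^ m)) fun a b => by
      ext x : 1
      apply Subtype.ext
      rw [MulAut.mul_apply, S2127.coe_fld, S2127.coe_fld, S2127.coe_fld, ← Cfsg.Agent.CpAut.RgdTwStd.glE_mul]
  refine CC.of_surj f fun α => ?_
  obtain ⟨g, hg⟩ := ReeOut.exists_frame hK (Data.data c) α
  obtain ⟨a, τ, h1⟩ := ReeOut.exists_of_frame hm hK F hg
  refine ⟨g⁻¹ * Data.T c a, τ, ?_⟩
  rw [map_mul, mul_assoc]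
  show α = (MulAut.conj g⁻¹) * (MulAut.conj (Data.T c a) * S2127.fld τ (3 ^ m))
  rw [← h1, map_inv]
  group

end Ree

section TwF4

open Cfsg.Agent.S2128 Cfsg.Agent.ChevStructure.FieldMap Cfsg.Agent.ChevalleyStructure.TwF4.Rel
  Cfsg.Agent.ChevalleyStructure.TwF4.TwistedFix Cfsg.Agent.Octagon.KRel Cfsg.Agent.KFacts.TwF4.Inst
  Cfsg.Agent.KFacts.TwF4 Cfsg.Agent.TitsThree.RankTwoZ

/-- `²F₄(2^(2m+1))` -/
theorem cc_f4 {K : Type*} [Field K] [Fintype K] {m : ℕ} (hm : 1 ≤ m) (hK : Fintype.card K = 2 ^ (2 * m + 1)) :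
    CC ↥(Cfsg.Lie.twistedF4 K (2 ^ m)) := by
  have hch : CharP K 2 := Cfsg.Agent.ChevalleyStructure.TwF4.Twisted.charP_two hK
  have hf2 : Fact (Nat.Prime 2) := ⟨Nat.prime_two⟩
  obtain ⟨φ, hφ⟩ := exists_rln hK
  have hF : ∃ c : Kˣ, c ≠ 1 := by
    have h1 : 1 < Nat.card Kˣ := by
      rw [Nat.card_units, Nat.card_eq_fintype_card, hK]
      have : 2 ^ 3 ≤ 2 ^ (2 * m + 1) := Nat.pow_le_pow_right (by norm_num) (by omega)
      omega
    have : Nontrivial Kˣ := Finite.one_lt_card_iff_nontrivial.1 h1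
    exact exists_ne 1
  have hcyc : IsCyclic (K ≃+* K) := Cfsg.Agent.LieRecognition.FieldSemilinear.isCyclic_ringAut K
  let f : (K ≃+* K) →* MulAut ↥(Cfsg.Lie.twistedF4 K (2 ^ m)) :=
    MonoidHom.mk' (fun τ => S2128.fld τ (2 ^ m)) fun a b => by
      ext x : 1
      apply Subtype.ext
      rw [MulAut.mul_apply, S2128.coe_fld, S2128.coe_fld, S2128.coe_fld, ← Cfsg.Agent.CpAut.RgdTwStd.glE_mul]
  refine CC.of_surj f fun α => ?_
  obtain ⟨k, τ0, ho, he⟩ := AutNorm.aut_form (full hK hφ) hF rfl α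
  obtain ⟨τ, hτ⟩ : ∃ τ : K ≃+* K, ∀ x, τ x = τ0 x :=
    ⟨RingEquiv.ofBijective τ0 (Finite.injective_iff_bijective.1 τ0.injective), fun _ => rfl⟩
  refine ⟨k, τ, aut_ext (full hK hφ) ?_ ?_⟩
  · intro a t
    rw [ho, MulAut.mul_apply]
    show _ = MulAut.conj k (S2128.fld τ (2 ^ m) (ro hφ a t))
    rw [fld_ro τ hφ, MulAut.conj_apply, hτ]
    rfl
  · intro a p u
    rw [he, MulAut.mul_apply]
    show _ = MulAut.conj k (S2128.fld τ (2 ^ m) (re hφ a p u))
    rw [fld_re τ hφ, MulAut.conj_apply, hτ, hτ]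
    rfl

end TwF4

end Cfsg.Agent.H988.CopCyc.RankOne
end

-- part: H988/CopCyc/Chev
section
/-!
# Coprime groups of automorphisms of the Chevalley groups `G₂`, `F₄`, `E₆`, `E₇`, `E₈` are cyclic
-/

set_option autoImplicit false

namespace Cfsg.Agent.H988.CopCyc.Chev

open Cfsg Cfsg.Lie Cfsg.Agent.H988.CopCyc Cfsg.Agent.H79.OutChev

universe u

theorem mem_of_pow_mem {G : Type*} [Group G] {R : Subgroup G} {x : G} {n : ℕ} (hc : (orderOf x).Coprime n)
    (h : x ^ n ∈ R) : x ∈ R := by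
  have e : x ^ (Nat.gcd (orderOf x) n : ℤ) =
      (x ^ orderOf x) ^ (Nat.gcdA (orderOf x) n) * (x ^ n) ^ (Nat.gcdB (orderOf x) n) := by
    rw [Nat.gcd_eq_gcd_ab, zpow_add, zpow_mul, zpow_mul, zpow_natCast, zpow_natCast]
  rw [hc.gcd_eq_one, Nat.cast_one, zpow_one, pow_orderOf_eq_one, one_zpow, one_mul] at e
  rw [e]
  exact zpow_mem h _

variable {F : Type u} [Field F] {D : ChevalleyDatum}

theorem isD_pow {hD : Cfsg.Agent.ChevalleyStructure.Elts.InList D} {c : Fin D.rank → Fˣ} {α : MulAut ↥(D.group F)}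
    (h : IsD hD c α) (k : ℕ) : IsD hD (c ^ k) (α ^ k) := by
  induction k with
  | zero => rw [pow_zero, pow_zero]; exact IsD.one hD
  | succ k ih => rw [pow_succ, pow_succ]; exact ih.mul h

theorem cc [Finite F] (hD : D ∈ [chevG2, chevB2, chevD4, chevF4, chevE6, chevE7, chevE8])
    (h2 : 2 ∣ Nat.card ↥(D.group F)) (h3 : 3 ∣ Nat.card ↥(D.group F))
    (hN : Nat.card Fˣ ∣ Nat.card ↥(D.group F)) : CC ↥(D.group F) := by
  have hfin : Finite ↥(D.group F) := inferInstance
  intro A hA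
  let π := QuotientGroup.mk' (Cfsg.Inn ↥(D.group F))
  refine isCyclic_of_out A hA π (fun α hα => (QuotientGroup.eq_one_iff _).1 hα) ?_
  obtain ⟨h1, -, hcyc, hnorm, hidx⟩ := Cfsg.Agent.S2159.result D hD _ _ rfl rfl (F := F)
  set Dbar := (Subgroup.closure {φ : MulAut ↥(D.group F) | D.IsDiagonalAut φ}).map
    (QuotientGroup.mk' (Cfsg.Inn ↥(D.group F))) with hDbar
  set Fbar := (Subgroup.closure {φ : MulAut ↥(D.group F) | D.IsFieldAut φ}).map
    (QuotientGroup.mk' (Cfsg.Inn ↥(D.group F))) with hFbar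
  have hord : ∀ a ∈ A, (orderOf (π a)).Coprime 6 := by
    intro a ha
    have h5 : orderOf (π a) ∣ Nat.card A := by
      refine (orderOf_map_dvd π a).trans ?_
      have : orderOf (⟨_, ha⟩ : A) ∣ Nat.card A := orderOf_dvd_natCard _
      rwa [← Subgroup.orderOf_coe] at this
    have h6 : (Nat.card A).Coprime 6 := by
      have : (6 : ℕ) ∣ Nat.card ↥(D.group F) := by
        have : (2 * 3 : ℕ) ∣ Nat.card ↥(D.group F) := Nat.Coprime.mul_dvd_of_dvd_of_dvd (by norm_num) h2 h3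
        exact this
      exact Nat.Coprime.coprime_dvd_right this hA
    exact Nat.Coprime.coprime_dvd_left h5 h6
  refine isCyclic_of_split Fbar.subtype Dbar ?_ (A.map π) ?_ ?_
  · intro c d hd
    exact h1.conj_mem d hd c
  · rintro _ ⟨a, ha, rfl⟩
    rw [Subgroup.range_subtype]
    have h7 : (π a) ^ (Dbar ⊔ Fbar).index ∈ Dbar ⊔ Fbar := Subgroup.pow_index_mem _ _
    refine mem_of_pow_mem ?_ h7
    refine Nat.Coprime.coprime_dvd_right ?_ (hord a ha)
    rcases hidx with h | h | h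
    · rw [h]; norm_num
    · rw [h]; norm_num
    · rw [h.1]
  · rintro _ ⟨a, ha, rfl⟩ hx
    obtain ⟨d, hd, hda⟩ := hx
    rw [SetLike.mem_coe, closure_isDiagonalAut (hD := hD) (Cfsg.Agent.H79.DiagAuts.diagFacts hD F)] at hd
    obtain ⟨c, hc⟩ := hd
    have h8 : d ^ Nat.card Fˣ = 1 := by
      have h9 := isD_pow hc (Nat.card Fˣ)
      have h10 : c ^ Nat.card Fˣ = 1 := by
        funext i
        rw [Pi.pow_apply, Pi.one_apply]
        exact pow_card_eq_one'
      rw [h10] at h9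
      exact h9.unique (IsD.one hD)
    have h11 : a ^ Nat.card Fˣ ∈ (MulAut.conj : ↥(D.group F) →* MulAut ↥(D.group F)).range := by
      have : π (a ^ Nat.card Fˣ) = 1 := by
        rw [map_pow, ← hda]
        change (π d) ^ Nat.card Fˣ = 1
        rw [← map_pow, h8, map_one]
      exact (QuotientGroup.eq_one_iff _).1 this
    rw [eq_one_of_pow_inner hA ha (fun r _ hrd => hrd.trans hN) h11, map_one]

theorem six_dvd (q : ℕ) (hq : 1 < q) : 2 ∣ q * (q ^ 2 - 1) ∧ 3 ∣ q * (q ^ 2 - 1) ∧ q - 1 ∣ q * (q ^ 2 - 1) := by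
  obtain ⟨t, rfl⟩ : ∃ t, q = t + 1 := ⟨q - 1, by omega⟩
  have e : (t + 1) ^ 2 - 1 = t * (t + 2) := Nat.sub_eq_of_eq_add (by ring)
  rw [e]
  refine ⟨?_, ?_, ?_⟩
  · have : t % 2 = 0 ∨ t % 2 = 1 := by omega
    rcases this with h | h
    · have : 2 ∣ t := Nat.dvd_of_mod_eq_zero h
      exact Dvd.dvd.mul_left (Dvd.dvd.mul_right this _) _
    · have : 2 ∣ t + 1 := by omega
      exact Dvd.dvd.mul_right this _
  · have : t % 3 = 0 ∨ t % 3 = 1 ∨ t % 3 = 2 := by omega
    rcases this with h | h | h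
    · have : 3 ∣ t := Nat.dvd_of_mod_eq_zero h
      exact Dvd.dvd.mul_left (Dvd.dvd.mul_right this _) _
    · have : 3 ∣ t + 2 := by omega
      exact Dvd.dvd.mul_left (Dvd.dvd.mul_left this _) _
    · have : 3 ∣ t + 1 := by omega
      exact Dvd.dvd.mul_right this _
  · rw [Nat.add_sub_cancel]
    exact Dvd.dvd.mul_left (Dvd.dvd.mul_right dvd_rfl _) _

theorem cc_of_dvd [Fintype F] (hD : D ∈ [chevG2, chevB2, chevD4, chevF4, chevE6, chevE7, chevE8])
    (h : Fintype.card F * (Fintype.card F ^ 2 - 1) ∣ Nat.card ↥(D.group F)) : CC ↥(D.group F) := by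
  obtain ⟨h1, h2, h3⟩ := six_dvd (Fintype.card F) Fintype.one_lt_card
  refine cc hD (h1.trans h) (h2.trans h) ?_
  rw [Nat.card_units, Nat.card_eq_fintype_card]
  exact h3.trans h

theorem mul_dvd_aux {q a b c N : ℕ} (ha : 1 ≤ a) (h : N = q ^ a * b * c) : q * b ∣ N := by
  rw [h]
  exact Dvd.dvd.mul_right (mul_dvd_mul (dvd_pow_self q (by omega)) dvd_rfl) c

theorem cc_G2 [Fintype F] : CC ↥(chevG2.group F) := by
  refine cc_of_dvd (by simp) (mul_dvd_aux (a := 6) (c := Fintype.card F ^ 6 - 1) (by norm_num) ?_)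
  rw [Cfsg.Agent.S1059.result rfl]

theorem cc_F4 [Fintype F] : CC ↥(chevF4.group F) := by
  refine cc_of_dvd (by simp) (mul_dvd_aux (a := 24)
    (c := (Fintype.card F ^ 6 - 1) * (Fintype.card F ^ 8 - 1) * (Fintype.card F ^ 12 - 1)) (by norm_num) ?_)
  rw [Cfsg.Agent.S1062.result rfl]
  ring

theorem cc_E8 [Fintype F] : CC ↥(chevE8.group F) := by
  refine cc_of_dvd (by simp) (mul_dvd_aux (a := 120)
    (c := (Fintype.card F ^ 8 - 1) * (Fintype.card F ^ 12 - 1) * (Fintype.card F ^ 14 - 1) * (Fintype.card F ^ 18 - 1) *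
      (Fintype.card F ^ 20 - 1) * (Fintype.card F ^ 24 - 1) * (Fintype.card F ^ 30 - 1)) (by norm_num) ?_)
  rw [Cfsg.Agent.S1065.result rfl]
  ring

theorem cc_E6 [Fintype F] : CC ↥(chevE6.group F) := by
  set q := Fintype.card F with hq
  have hg0 : 0 < Nat.gcd 3 (q - 1) := Nat.gcd_pos_of_pos_left _ (by norm_num)
  obtain ⟨e, he⟩ : Nat.gcd 3 (q - 1) ∣ q ^ 5 - 1 :=
    (Nat.gcd_dvd_right _ _).trans (by simpa only [_root_.one_pow] using Nat.sub_dvd_pow_sub_pow q 1 5)
  refine cc_of_dvd (by simp) (mul_dvd_aux (a := 36)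
    (c := e * (q ^ 6 - 1) * (q ^ 8 - 1) * (q ^ 9 - 1) * (q ^ 12 - 1)) (by norm_num) ?_)
  apply Nat.eq_of_mul_eq_mul_left hg0
  rw [Cfsg.Agent.S1063.result rfl]
  change q ^ 36 * (q ^ 2 - 1) * (q ^ 5 - 1) * _ * _ * _ * _ = _
  rw [he]
  ring

theorem cc_E7 [Fintype F] : CC ↥(chevE7.group F) := by
  set q := Fintype.card F with hq
  have hg0 : 0 < Nat.gcd 2 (q - 1) := Nat.gcd_pos_of_pos_left _ (by norm_num)
  obtain ⟨e, he⟩ : Nat.gcd 2 (q - 1) ∣ q ^ 6 - 1 :=
    (Nat.gcd_dvd_right _ _).trans (by simpa only [_root_.one_pow] using Nat.sub_dvd_pow_sub_pow q 1 6)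
  refine cc_of_dvd (by simp) (mul_dvd_aux (a := 63)
    (c := e * (q ^ 8 - 1) * (q ^ 10 - 1) * (q ^ 12 - 1) * (q ^ 14 - 1) * (q ^ 18 - 1)) (by norm_num) ?_)
  apply Nat.eq_of_mul_eq_mul_left hg0
  rw [Cfsg.Agent.S1064.result rfl]
  change q ^ 63 * (q ^ 2 - 1) * (q ^ 6 - 1) * _ * _ * _ * _ * _ = _
  rw [he]
  ring

end Cfsg.Agent.H988.CopCyc.Chev
end

-- part: H988/CopCyc/Sum
section
/-!
# Coprime groups of automorphisms of the known finite simple groups: the generic cases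

`cc_of_oddInn`, `two_dvd_card`, `cc_known` (modulo the sporadic groups and the Tits group).
-/

set_option autoImplicit false

namespace Cfsg.Agent.H988.CopCyc.Sum

open Cfsg Cfsg.Agent.H988.CopCyc

universe u

/-- If the automorphisms of odd prime order are inner and `|K|` is even. -/
theorem cc_of_oddInn {K : Type*} [Group K] [Finite K] (h2 : 2 ∣ Nat.card K)
    (h : Cfsg.Agent.BpSpor.Inn.OddInn K) : CC K := by
  intro A hA
  have h1 : Nat.card A = 1 := by
    by_contra hne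
    obtain ⟨r, hr, hd⟩ := Nat.exists_prime_and_dvd hne
    have hrf : Fact r.Prime := ⟨hr⟩
    have hr2 : r ≠ 2 := by
      rintro rfl
      have := Nat.dvd_gcd hd h2
      rw [hA] at this
      omega
    obtain ⟨a, ha⟩ := exists_prime_orderOf_dvd_card' (G := A) r hd
    have ho : orderOf (a : MulAut K) = r := by rw [Subgroup.orderOf_coe, ha]
    obtain ⟨g, hg⟩ := h r hr hr2 a ho
    have := eq_one_of_inner hA a.2 ⟨g, hg.symm⟩
    rw [this, orderOf_one] at ho
    exact hr.one_lt.ne ho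
  have : Subsingleton A := (Nat.card_eq_one_iff_unique.1 h1).1
  infer_instance

/-- A nonabelian finite simple group has even order. -/
theorem two_dvd_card {K : Type*} [Group K] [Finite K] [IsSimpleGroup K] (hK : ¬ IsMulCommutative K) :
    2 ∣ Nat.card K := by
  by_contra h
  have h1 : Group.IsSolvable K := Cfsg.Agent.S0205.result (by
    rw [← Nat.not_even_iff_odd]
    exact fun h' => h h'.two_dvd)
  apply hK
  have h2 : commutator K ≠ ⊤ := by
    intro h3
    have h4 : Nontrivial K := IsSimpleGroup.toNontrivial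
    have := IsSolvable.commutator_lt_top_of_nontrivial K
    exact this.ne h3
  have h3 : commutator K = ⊥ :=
    (IsSimpleGroup.eq_bot_or_eq_top_of_normal _ inferInstance).resolve_right h2
  have h4 : Subgroup.center K = ⊤ := by
    rw [eq_top_iff]
    have := commutator_eq_bot_iff_center_eq_top (G := K) |>.1 h3
    rw [this]
  refine ⟨⟨fun a b => ?_⟩⟩
  have h5 : a ∈ Subgroup.center K := by rw [h4]; trivial
  exact (Subgroup.mem_center_iff.1 h5 b).symm

theorem three_dvd_mul {q : ℕ} (hq : 1 ≤ q) : 3 ∣ q * (q ^ 2 - 1) := by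
  obtain ⟨t, rfl⟩ : ∃ t, q = t + 1 := ⟨q - 1, by omega⟩
  have e : (t + 1) ^ 2 - 1 = t * (t + 2) := by
    rw [Nat.sub_eq_iff_eq_add (Nat.one_le_pow _ _ (by omega))]
    ring
  rw [e]
  have h3 : t % 3 = 0 ∨ t % 3 = 1 ∨ t % 3 = 2 := by omega
  rcases h3 with h | h | h
  · have : 3 ∣ t := by omega
    exact Dvd.dvd.mul_left (Dvd.dvd.mul_right this _) _
  · have : 3 ∣ t + 2 := by omega
    exact Dvd.dvd.mul_left (Dvd.dvd.mul_left this _) _
  · have : 3 ∣ t + 1 := by omega
    exact Dvd.dvd.mul_right this _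

theorem three_dvd_plus {F : Type*} [Field F] [Fintype F] {m : ℕ} (hm : 4 ≤ m) :
    3 ∣ Nat.card (Cfsg.POmega F (Cfsg.quadFormPlus m F)) := by
  set q := Fintype.card F with hq
  have h0 := Cfsg.Agent.S0293.result (F := F) (q := q) rfl m hm
  have h1 : q ∣ q ^ (m * (m - 1)) := dvd_pow_self _ (by
    have : 0 < m * (m - 1) := Nat.mul_pos (by omega) (by omega)
    omega)
  have h2 : (q ^ 2 - 1) ∣ ∏ i ∈ Finset.range (m - 1), (q ^ (2 * (i + 1)) - 1) := by
    have := Finset.dvd_prod_of_mem (fun i => q ^ (2 * (i + 1)) - 1) (a := 0) (s := Finset.range (m - 1))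
      (Finset.mem_range.2 (by omega))
    simpa only [_root_.zero_add, _root_.mul_one] using this
  have h3 : 3 ∣ q ^ (m * (m - 1)) * (q ^ m - 1) * ∏ i ∈ Finset.range (m - 1), (q ^ (2 * (i + 1)) - 1) :=
    (three_dvd_mul (by rw [hq]; exact Fintype.card_pos)).trans (mul_dvd_mul (h1.mul_right _) h2)
  rw [← h0] at h3
  rcases (Nat.Prime.dvd_mul Nat.prime_three).1 h3 with h | h
  · exfalso
    have h4 : 3 ∣ 4 := h.trans (Nat.gcd_dvd_left _ _)
    omega
  · exact h

/-- Coprime groups of automorphisms of the known simple groups, modulo the sporadic groups and the Tits group. -/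
theorem cc_known {K : Type u} [Group K] [Finite K] [IsSimpleGroup K] (hK : ¬ IsMulCommutative K)
    (h : IsKnownSimple' K) (hT : Lie.IsoTits K → CC K) (hS : IsSporadicGroup K → CC K) : CC K := by
  have h2 := two_dvd_card hK
  rcases h with h | h | h | h | h | h | h | h | h | h
  · exfalso
    apply hK
    have h1 : Fact (Nat.card K).Prime := ⟨h⟩
    have h2 : IsCyclic K := isCyclic_of_prime_card (p := Nat.card K) rfl
    exact IsCyclic.isMulCommutative
  · obtain ⟨n, hn, ⟨e⟩⟩ := h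
    exact CC.of_equiv e.symm (Alt.cc hn (by rwa [← Nat.card_congr e.toEquiv]))
  · obtain ⟨F, _, _, n, hn, -, ⟨e⟩⟩ := h
    exact CC.of_equiv e.symm (Psl.cc hn (by rwa [← Nat.card_congr e.toEquiv]))
  · obtain ⟨F, _, _, m, hm, h2', ⟨e⟩⟩ := h
    exact CC.of_equiv e.symm (Psp.cc hm (fun h => by rw [Nat.card_eq_fintype_card]; exact h2' h)
      (by rwa [← Nat.card_congr e.toEquiv]))
  · obtain ⟨F, _, _, n, q, hF, hn, h32, ⟨e⟩⟩ := h
    exact CC.of_equiv e.symm (Psu.cc hF hn h32)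
  · obtain ⟨F, _, _, m, hm, hodd, ⟨e⟩⟩ := h
    exact CC.of_equiv e.symm (Orth.cc_odd hm (Cfsg.Agent.LieClassical.PomegaCard.odd_card_iff.1 hodd)
      (by rwa [← Nat.card_congr e.toEquiv]))
  · obtain ⟨F, _, _, m, hm, ⟨e⟩⟩ := h
    exact CC.of_equiv e.symm (Orth.cc_plus hm (by rwa [← Nat.card_congr e.toEquiv]) (three_dvd_plus hm))
  · obtain ⟨F, _, _, m, a, b, hm, hab, ⟨e⟩⟩ := h
    exact CC.of_equiv e.symm (Orth.cc_minus hm a b hab (by rwa [← Nat.card_congr e.toEquiv]))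
  · rcases h with h | h | h | h | h | h | h | h | h | h | h
    · obtain ⟨F, _, _, -, ⟨e⟩⟩ := h
      exact CC.of_equiv e.symm Chev.cc_G2
    · obtain ⟨F, _, _, ⟨e⟩⟩ := h
      exact CC.of_equiv e.symm Chev.cc_F4
    · obtain ⟨F, _, _, ⟨e⟩⟩ := h
      exact CC.of_equiv e.symm Chev.cc_E6
    · obtain ⟨F, _, _, ⟨e⟩⟩ := h
      exact CC.of_equiv e.symm Chev.cc_E7
    · obtain ⟨F, _, _, ⟨e⟩⟩ := h
      exact CC.of_equiv e.symm Chev.cc_E8
    · obtain ⟨F, _, _, q, hq, hF, ⟨e⟩⟩ := h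
      obtain ⟨p, hp⟩ := CharP.exists F
      have hprime : Fact p.Prime := ⟨CharP.char_is_prime F p⟩
      exact CC.of_equiv e.symm (Tw.cc_E6 hq hF p)
    · obtain ⟨F, _, _, q, hq, hF, ⟨e⟩⟩ := h
      obtain ⟨p, hp⟩ := CharP.exists F
      have hprime : Fact p.Prime := ⟨CharP.char_is_prime F p⟩
      exact CC.of_equiv e.symm (Tw.cc_D4 hq hF p)
    · obtain ⟨F, _, _, m, hm, hF, ⟨e⟩⟩ := h
      exact CC.of_equiv e.symm (RankOne.cc_sz hm hF)
    · obtain ⟨F, _, _, m, hm, hF, ⟨e⟩⟩ := h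
      exact CC.of_equiv e.symm (RankOne.cc_ree hm hF)
    · obtain ⟨F, _, _, m, hm, hF, ⟨e⟩⟩ := h
      exact CC.of_equiv e.symm (RankOne.cc_f4 hm hF)
    · exact hT h
  · exact hS h

end Cfsg.Agent.H988.CopCyc.Sum
end
end
end
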