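import Mathlib
import Cfsg.Prelude.Def_OddOrderLocal
import Cfsg.Agent.Solvable.SZ
import Cfsg.Agent.S0205
import Cfsg.Agent.S0003
import Cfsg.Agent.S0004
import Cfsg.Agent.S0005
import Cfsg.Agent.OddOrderLocal.CyclicSub
import Cfsg.Agent.H988.CopCyc.Base
import Cfsg.Agent.FastGrp
import Cfsg.Agent.Prune
set_option linter.all false

section
prune_inst 0x7f00000000000000000000000000000000000000000000000000000000000000000000000000000000000000000000000000000000000000000000000000000000000000000000000000000000000000003fffffffffffffffffffffffffffbeffbdffffffff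

-- part: H20/DPi
section
set_option linter.all false
open scoped Cfsg.Agent.FastGrp

/-!
# Hall's theorem for `π`-separable groups (`D_π`)

`HasD π G`: Hall `π`-subgroups exist and every `π`-subgroup is conjugate into any given one.
`dPi_step`: `D_π` for `G ⧸ N` gives `D_π` for `G`, if `N` is a `π`-group or a `π'`-group.
-/

set_option autoImplicit false

universe u

namespace Cfsg.Agent.H20.DPi

open Subgroup Pointwise

/-- a number all of whose prime divisors are in `π` -/
def PiNum (π : Set ℕ) (m : ℕ) : Prop := ∀ q : ℕ, q.Prime → q ∣ m → q ∈ π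

/-- `D_π` -/
def HasD (π : Set ℕ) (G : Type u) [Group G] : Prop :=
  (∃ K : Subgroup G, Cfsg.IsPiHall π K) ∧
    ∀ K U : Subgroup G, Cfsg.IsPiHall π K → PiNum π (Nat.card U) →
      ∃ g : G, U.map (MulAut.conj g).toMonoidHom ≤ K

theorem coprime_of_piNum {π : Set ℕ} {a b : ℕ} (ha : PiNum π a) (hb : ∀ q : ℕ, q.Prime → q ∣ b → q ∉ π) :
    a.Coprime b := by
  rw [Nat.coprime_iff_gcd_eq_one]
  by_contra h
  obtain ⟨q, hq, hd⟩ := Nat.exists_prime_and_dvd h
  exact hb q hq (hd.trans (Nat.gcd_dvd_right _ _)) (ha q hq (hd.trans (Nat.gcd_dvd_left _ _)))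

theorem isHall_map {G : Type u} [Group G] [Finite G] {π : Set ℕ} (N : Subgroup G) [N.Normal] {K : Subgroup G}
    (hK : Cfsg.IsPiHall π K) : Cfsg.IsPiHall π (K.map (QuotientGroup.mk' N)) := by
  refine ⟨fun p hp hd => hK.1 p hp (hd.trans (Subgroup.card_map_dvd K _)), fun p hp hpp hd => ?_⟩
  exact hK.2 p hp hpp (hd.trans (Subgroup.index_map_dvd K (QuotientGroup.mk'_surjective N)))

theorem map_conj_le_sup {G : Type u} [Group G] (N : Subgroup G) [N.Normal] {K U : Subgroup G} {g : G}
    (h : (U.map (QuotientGroup.mk' N)).map (MulAut.conj (QuotientGroup.mk' N g)).toMonoidHom ≤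
      K.map (QuotientGroup.mk' N)) : U.map (MulAut.conj g).toMonoidHom ≤ K ⊔ N := by
  rintro _ ⟨x, hx, rfl⟩
  have h1 : QuotientGroup.mk' N (g * x * g⁻¹) ∈ K.map (QuotientGroup.mk' N) := by
    apply h
    refine ⟨QuotientGroup.mk' N x, ⟨x, hx, rfl⟩, ?_⟩
    simp
  obtain ⟨k, hk, he⟩ := h1
  have h2 : k⁻¹ * (g * x * g⁻¹) ∈ N := by
    have : (QuotientGroup.mk' N) (k⁻¹ * (g * x * g⁻¹)) = 1 := by
      rw [map_mul, map_inv, he, inv_mul_cancel]
    exact (QuotientGroup.eq_one_iff _).1 this
  have h3 : g * x * g⁻¹ = k * (k⁻¹ * (g * x * g⁻¹)) := by group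
  change g * x * g⁻¹ ∈ K ⊔ N
  rw [h3]
  exact mul_mem (mem_sup_left hk) (mem_sup_right h2)

theorem piNum_mul {π : Set ℕ} {a b : ℕ} (ha : PiNum π a) (hb : PiNum π b) : PiNum π (a * b) := by
  intro q hq hd
  rcases (Nat.Prime.dvd_mul hq).1 hd with h | h
  exacts [ha q hq h, hb q hq h]

theorem card_sup_dvd {G : Type u} [Group G] [Finite G] (K N : Subgroup G) [N.Normal] :
    Nat.card ↥(K ⊔ N) ∣ Nat.card K * Nat.card N := by
  have h1 : N.relIndex (K ⊔ N) ∣ Nat.card K := by
    rw [Subgroup.relIndex_sup_right]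
    exact Subgroup.relIndex_dvd_card N K
  have h2 : Nat.card N * N.relIndex (K ⊔ N) = Nat.card ↥(K ⊔ N) :=
    by rw [← Subgroup.relIndex_bot_left N, Subgroup.relIndex_mul_relIndex _ _ _ bot_le le_sup_right,
      Subgroup.relIndex_bot_left]
  rw [← h2, mul_comm]
  exact Nat.mul_dvd_mul_right h1 _


theorem le_of_card_piNum {G : Type u} [Group G] [Finite G] {π : Set ℕ} {K M : Subgroup G}
    (hK : Cfsg.IsPiHall π K) (hKM : K ≤ M) (hM : PiNum π (Nat.card M)) : M = K := by
  have h1 : K.relIndex M = 1 := by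
    by_contra h
    obtain ⟨q, hq, hd⟩ := Nat.exists_prime_and_dvd h
    have h2 : q ∣ Nat.card M := hd.trans (Subgroup.relIndex_dvd_card K M)
    exact hK.2 q hq (hM q hq h2) (hd.trans (Subgroup.relIndex_dvd_index_of_le hKM))
  exact le_antisymm (Subgroup.relIndex_eq_one.1 h1) hKM

/-- conjugacy of complements: coprime orders -/
theorem conj_of_coprime {G : Type u} [Group G] [Finite G] (N : Subgroup G) [N.Normal] (U L : Subgroup G)
    (hcop : (Nat.card N).Coprime (Nat.card U)) (hU : N ⊔ U = ⊤) (hL : N ⊔ L = ⊤)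
    (hcop' : (Nat.card N).Coprime (Nat.card L)) : ∃ g : G, MulAut.conj g • U = L := by
  have key : ∀ V : Subgroup G, (Nat.card N).Coprime (Nat.card V) → N ⊔ V = ⊤ → Nat.card V = N.index := by
    intro V hV hNV
    have h1 : IsComplement' N V :=
      Subgroup.isComplement'_of_disjoint_and_mul_eq_univ (Subgroup.disjoint_of_coprime_natCard hV)
        (by rw [← Subgroup.normal_mul, hNV, Subgroup.coe_top])
    exact h1.symm.index_eq_card.symm
  have h1 := key U hcop hU
  have h2 := key L hcop' hL
  refine Cfsg.Agent.Solvable.SZ.main (Nat.card G) G rfl N (h1 ▸ hcop) U L ?_ h1 h2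
  rcases Nat.even_or_odd (Nat.card N) with he | ho
  · right
    apply Cfsg.Agent.S0205.result
    rw [← Nat.not_even_iff_odd]
    intro h3
    have h4 : 2 ∣ Nat.gcd (Nat.card N) (Nat.card U) := Nat.dvd_gcd (even_iff_two_dvd.1 he) (even_iff_two_dvd.1 h3)
    rw [hcop] at h4
    omega
  · left
    exact Cfsg.Agent.S0205.result ho


/-- Conjugacy of complements of `N` in a subgroup `M` containing the normal subgroup `N`. -/
theorem conj_of_coprime_in {G : Type u} [Group G] [Finite G] (N : Subgroup G) [N.Normal] (U L : Subgroup G)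
    (hcop : (Nat.card N).Coprime (Nat.card U)) (hUL : N ⊔ U = N ⊔ L)
    (hcop' : (Nat.card N).Coprime (Nat.card L)) : ∃ g : G, U.map (MulAut.conj g).toMonoidHom = L := by
  set M := N ⊔ U with hM
  have hNM : N ≤ M := le_sup_left
  have hUM : U ≤ M := le_sup_right
  have hLM : L ≤ M := hUL ▸ le_sup_right
  have e1 : ∀ V : Subgroup G, V ≤ M → Nat.card (V.subgroupOf M) = Nat.card V :=
    fun V hV => Nat.card_congr (Subgroup.subgroupOfEquivOfLe hV).toEquiv
  have e2 : ∀ V : Subgroup G, V ≤ M → N ⊔ V = M → N.subgroupOf M ⊔ V.subgroupOf M = ⊤ := by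
    intro V hV h
    rw [← Subgroup.subgroupOf_sup hNM hV, h, Subgroup.subgroupOf_self]
  obtain ⟨g, hg⟩ := conj_of_coprime (N.subgroupOf M) (U.subgroupOf M) (L.subgroupOf M)
    (by rw [e1 _ hNM, e1 _ hUM]; exact hcop) (e2 U hUM rfl) (e2 L hLM hUL.symm)
    (by rw [e1 _ hNM, e1 _ hLM]; exact hcop')
  refine ⟨g, ?_⟩
  have h1 : ((MulAut.conj g • U.subgroupOf M : Subgroup M)).map M.subtype = U.map (MulAut.conj (g : G)).toMonoidHom := by
    ext x
    constructor
    · rintro ⟨_, ⟨y, hy, rfl⟩, rfl⟩
      exact ⟨y, hy, rfl⟩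
    · rintro ⟨y, hy, rfl⟩
      exact ⟨g * ⟨y, hUM hy⟩ * g⁻¹, ⟨⟨y, hUM hy⟩, hy, rfl⟩, rfl⟩
  rw [← h1, hg, Subgroup.map_subgroupOf_eq_of_le hLM]

theorem conj_map_map {G : Type u} [Group G] (U : Subgroup G) (a b : G) :
    (U.map (MulAut.conj a).toMonoidHom).map (MulAut.conj b).toMonoidHom =
      U.map (MulAut.conj (b * a)).toMonoidHom := by
  rw [Subgroup.map_map]
  congr 1
  ext x
  simp [mul_assoc]

theorem hasD_step {G : Type u} [Group G] [Finite G] {π : Set ℕ} (N : Subgroup G) [N.Normal]
    (hN : PiNum π (Nat.card N) ∨ ∀ q : ℕ, q.Prime → q ∣ Nat.card N → q ∉ π) (h : HasD π (G ⧸ N)) :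
    HasD π G := by
  obtain ⟨⟨Kb, hKb⟩, hconj⟩ := h
  refine ⟨?_, ?_⟩
  · set M := Kb.comap (QuotientGroup.mk' N) with hM
    have hNM : N ≤ M := by
      intro x hx
      rw [hM, Subgroup.mem_comap]
      rw [(QuotientGroup.eq_one_iff x).2 hx |> fun h => (show QuotientGroup.mk' N x = 1 from h)]
      exact one_mem _
    have hMcard : Nat.card M = Nat.card N * Nat.card Kb := by
      have h1 : Nat.card Kb = N.relIndex M := by
        have := Subgroup.relIndex_ker (K := M) (QuotientGroup.mk' N)
        rw [QuotientGroup.ker_mk'] at this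
        rw [this, hM, Subgroup.map_comap_eq_self_of_surjective (QuotientGroup.mk'_surjective N)]
      rw [h1, ← Subgroup.relIndex_bot_left N, Subgroup.relIndex_mul_relIndex _ _ _ bot_le hNM,
        Subgroup.relIndex_bot_left]
    have hMind : M.index = Kb.index := Subgroup.index_comap_of_surjective Kb (QuotientGroup.mk'_surjective N)
    rcases hN with hN | hN
    · refine ⟨M, ?_, ?_⟩
      · rw [hMcard]; exact piNum_mul hN hKb.1
      · rw [hMind]; exact hKb.2
    · have hcop : (Nat.card Kb).Coprime (Nat.card N) := coprime_of_piNum hKb.1 hN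
      have hc : Nat.card (N.subgroupOf M) = Nat.card N := Nat.card_congr (Subgroup.subgroupOfEquivOfLe hNM).toEquiv
      have hi : (N.subgroupOf M).index = Nat.card Kb := by
        have h1 := Subgroup.card_mul_index (N.subgroupOf M)
        rw [hc, hMcard] at h1
        exact Nat.eq_of_mul_eq_mul_left Nat.card_pos h1
      obtain ⟨K, hK⟩ := Subgroup.exists_right_complement'_of_coprime (N := N.subgroupOf M)
        (by rw [hc, hi]; exact hcop.symm)
      have hKc : Nat.card K = Nat.card Kb := by rw [← hi]; exact hK.symm.index_eq_card.symm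
      have hKc' : Nat.card (K.map M.subtype) = Nat.card Kb := by
        rw [← hKc]; exact (Nat.card_congr (K.equivMapOfInjective _ M.subtype_injective).toEquiv).symm
      refine ⟨K.map M.subtype, ?_, ?_⟩
      · rw [hKc']; exact hKb.1
      · intro p hp hpp hd
        have h1 : (K.map M.subtype).index = Nat.card N * Kb.index := by
          have h2 := Subgroup.card_mul_index (K.map M.subtype)
          have h3 := Subgroup.card_mul_index M
          rw [hKc'] at h2
          rw [hMcard, hMind, ← h2] at h3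
          have h4 : Nat.card Kb * (Nat.card N * Kb.index) = Nat.card Kb * (K.map M.subtype).index := by
            rw [← h3]; ring
          exact (Nat.eq_of_mul_eq_mul_left Nat.card_pos h4).symm
        rw [h1] at hd
        rcases (Nat.Prime.dvd_mul hp).1 hd with h | h
        · exact hN p hp h hpp
        · exact hKb.2 p hp hpp h
  · intro K U hK hU
    obtain ⟨gb, hgb⟩ := hconj (K.map (QuotientGroup.mk' N)) (U.map (QuotientGroup.mk' N)) (isHall_map N hK)
      (fun q hq hd => hU q hq (hd.trans (Subgroup.card_map_dvd U _)))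
    obtain ⟨g, rfl⟩ := QuotientGroup.mk'_surjective N gb
    have h1 := map_conj_le_sup N hgb
    set V := U.map (MulAut.conj g).toMonoidHom with hV
    have hVc : Nat.card V = Nat.card U :=
      (Nat.card_congr (U.equivMapOfInjective _ (MulAut.conj g).injective).toEquiv).symm
    rcases hN with hN | hN
    · have h2 : K ⊔ N = K := le_of_card_piNum hK le_sup_left
        (fun q hq hd => piNum_mul hK.1 hN q hq (hd.trans (card_sup_dvd K N)))
      exact ⟨g, by rw [← h2]; exact h1⟩
    · -- `L = (N ⊔ V) ⊓ K`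
      have hL : N ⊔ V = N ⊔ ((N ⊔ V) ⊓ K) := by
        apply le_antisymm
        · intro x hx
          have hx1 : x ∈ K ⊔ N := by
            have : N ⊔ V ≤ K ⊔ N := sup_le le_sup_right h1
            exact this hx
          rw [← SetLike.mem_coe, Subgroup.mul_normal] at hx1
          obtain ⟨k, hk, n, hn, rfl⟩ := hx1
          have hk' : k ∈ N ⊔ V := by
            have h3 : k = (k * n) * n⁻¹ := by group
            rw [h3]
            exact mul_mem hx (mem_sup_left (N.inv_mem hn))
          exact mul_mem (mem_sup_right ⟨hk', hk⟩) (mem_sup_left hn)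
        · exact sup_le le_sup_left inf_le_left
      obtain ⟨h, hh⟩ := conj_of_coprime_in N V ((N ⊔ V) ⊓ K)
        (by rw [hVc]; exact (coprime_of_piNum hU hN).symm) hL
        ((coprime_of_piNum (fun q hq hd => hK.1 q hq (hd.trans (Subgroup.card_dvd_of_le inf_le_right))) hN).symm)
      refine ⟨h * g, ?_⟩
      rw [← conj_map_map, ← hV, hh]
      exact inf_le_right

end Cfsg.Agent.H20.DPi
end

-- part: H988/CopCyc/Red
section
set_option linter.all false
open scoped Cfsg.Agent.FastGrp

/-!
# S4077: reduction to the cyclicity of coprime groups of automorphisms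
-/

set_option autoImplicit false

namespace Cfsg.Agent.H988.CopCyc

open Subgroup

/-- The largest divisor of `m` all of whose primes divide `k`. -/
theorem exists_part (k m : ℕ) (hm : m ≠ 0) : ∃ a b : ℕ, m = a * b ∧ a.Coprime b ∧ k.Coprime b ∧
    (∀ r : ℕ, r.Prime → r ∣ a → r ∣ k) := by
  induction m using Nat.recOnPosPrimePosCoprime with
  | zero => exact absurd rfl hm
  | one => exact ⟨1, 1, rfl, by simp, by simp, fun r hr h => absurd (Nat.dvd_one.1 h) hr.one_lt.ne'⟩
  | prime_pow p n hp hn =>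
    by_cases h : p ∣ k
    · refine ⟨p ^ n, 1, by simp, by simp, by simp, fun r hr h1 => ?_⟩
      rw [(Nat.prime_dvd_prime_iff_eq hr hp).1 (hr.dvd_of_dvd_pow h1)]
      exact h
    · refine ⟨1, p ^ n, by simp, by simp, ?_, fun r hr h => absurd (Nat.dvd_one.1 h) hr.one_lt.ne'⟩
      exact (((Nat.Prime.coprime_iff_not_dvd hp).2 h).symm).pow_right n
  | coprime x y hx hy hxy ihx ihy =>
    obtain ⟨a, b, h1, h2, h3, h4⟩ := ihx (by omega)
    obtain ⟨c, d, k1, k2, k3, k4⟩ := ihy (by omega)
    subst h1 k1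
    have e1 : a.Coprime d := (Nat.Coprime.coprime_mul_right (Nat.Coprime.coprime_mul_left_right hxy))
    have e2 : c.Coprime b :=
      (Nat.Coprime.coprime_mul_left (Nat.Coprime.coprime_mul_right_right hxy)).symm
    refine ⟨a * c, b * d, by ring, ?_, h3.mul_right k3, fun r hr h => ?_⟩
    · exact Nat.Coprime.mul_left (h2.mul_right e1) (e2.mul_right k2)
    · rcases hr.dvd_mul.1 h with h | h
      exacts [h4 r hr h, k4 r hr h]

/-- In a finite cyclic group subgroups of the same order are equal. -/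
theorem eq_of_card_eq {G : Type*} [Group G] [Finite G] [IsCyclic G] (H K : Subgroup G)
    (h : Nat.card H = Nat.card K) : H = K := by
  exact Cfsg.Agent.OddOrderLocal.CyclicSub.eq_of_card_eq_of_isCyclic h

/-- In a finite cyclic group every divisor of the order is the order of a subgroup. -/
theorem exists_card {G : Type*} [Group G] [Finite G] [IsCyclic G] {k : ℕ} (h : k ∣ Nat.card G) :
    ∃ H : Subgroup G, Nat.card H = k := by
  obtain ⟨g, hg⟩ := IsCyclic.exists_generator (α := G)
  obtain ⟨m, hm⟩ := h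
  have ho : orderOf g = Nat.card G := orderOf_eq_card_of_forall_mem_zpowers hg
  have hpos : 0 < Nat.card G := Nat.card_pos
  have hm0 : 0 < m := by
    rcases Nat.eq_zero_or_pos m with h | h
    · subst h; omega
    · exact h
  refine ⟨zpowers (g ^ m), ?_⟩
  rw [Nat.card_zpowers, orderOf_pow, ho, hm, Nat.gcd_eq_right ⟨k, by ring⟩, Nat.mul_div_cancel _ hm0]

theorem eq_of_le_cyclic {G : Type*} [Group G] [Finite G] {M U L : Subgroup G} (hM : IsCyclic M) (hU : U ≤ M)
    (hL : L ≤ M) (h : Nat.card U = Nat.card L) : U = L := by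
  have h1 : U.subgroupOf M = L.subgroupOf M := by
    apply eq_of_card_eq
    rw [Nat.card_congr (Subgroup.subgroupOfEquivOfLe hU).toEquiv,
      Nat.card_congr (Subgroup.subgroupOfEquivOfLe hL).toEquiv, h]
  rw [← Subgroup.map_subgroupOf_eq_of_le hU, ← Subgroup.map_subgroupOf_eq_of_le hL, h1]

/-- Abstract form: `N` normal in `Y`, `Y ⧸ N` solvable, subgroups of order prime to `|N|` are cyclic. -/
theorem abs {Y : Type*} [Group Y] [Finite Y] (N : Subgroup Y) [N.Normal] (hsol : Group.IsSolvable (Y ⧸ N))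
    (hc : ∀ A : Subgroup Y, (Nat.card A).Coprime (Nat.card N) → IsCyclic A) (k : ℕ) (hk : k ∣ Nat.card Y)
    (hcop : k.Coprime (Nat.card N)) :
    (∃ K : Subgroup Y, Nat.card K = k) ∧
    (∀ K L : Subgroup Y, Nat.card K = k → Nat.card L = k →
      IsCyclic K ∧ ∃ g : Y, L = K.map (MulAut.conj g).toMonoidHom) := by
  have hcard : Nat.card Y = Nat.card (Y ⧸ N) * Nat.card N := Subgroup.card_eq_card_quotient_mul_card_subgroup N
  have hkq : k ∣ Nat.card (Y ⧸ N) := by
    rw [hcard] at hk
    exact hcop.dvd_of_dvd_mul_right hk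
  obtain ⟨a, b, hab, hcab, hkb, hak⟩ := exists_part k (Nat.card (Y ⧸ N)) Nat.card_pos.ne'
  have hka : k ∣ a := by
    rw [hab] at hkq
    exact hkb.dvd_of_dvd_mul_right hkq
  have haN : (Nat.card N).Coprime a := by
    rw [Nat.coprime_iff_gcd_eq_one]
    by_contra h
    obtain ⟨r, hr, hd⟩ := Nat.exists_prime_and_dvd h
    have h1 := hak r hr (hd.trans (Nat.gcd_dvd_right _ _))
    have h2 : r ∣ Nat.gcd k (Nat.card N) := Nat.dvd_gcd h1 (hd.trans (Nat.gcd_dvd_left _ _))
    rw [hcop] at h2
    exact hr.one_lt.ne' (Nat.dvd_one.1 h2)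
  -- a Hall subgroup of the quotient is cyclic
  have hHall : ∀ Q : Subgroup (Y ⧸ N), Nat.card Q = a → IsCyclic Q ∧ ∃ H : Subgroup Y, Nat.card H = a ∧
      H.map (QuotientGroup.mk' N) = Q := by
    intro Q hQ
    set M : Subgroup Y := Q.comap (QuotientGroup.mk' N) with hM
    have hNM : N ≤ M := by
      intro x hx
      rw [hM, mem_comap]
      have : QuotientGroup.mk' N x = 1 := (QuotientGroup.eq_one_iff x).2 hx
      rw [this]; exact one_mem _
    have hidx : (N.subgroupOf M).index = a := by
      have h1 : N.relIndex M = Nat.card Q := by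
        have h2 : M.map (QuotientGroup.mk' N) = Q :=
          map_comap_eq_self_of_surjective (QuotientGroup.mk'_surjective N) Q
        rw [← h2]
        have h3 := Subgroup.relIndex_ker (QuotientGroup.mk' N) (K := M)
        rw [QuotientGroup.ker_mk'] at h3
        exact h3
      rw [← hQ, ← h1]; rfl
    have hcN : Nat.card (N.subgroupOf M) = Nat.card N := Nat.card_congr (Subgroup.subgroupOfEquivOfLe hNM).toEquiv
    obtain ⟨H, hH⟩ := exists_right_complement'_of_coprime (N := N.subgroupOf M) (by rw [hcN, hidx]; exact haN)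
    have hHc : Nat.card H = a := by rw [← hidx, hH.symm.index_eq_card]
    have hHc' : Nat.card (H.map M.subtype) = a := by
      rw [← hHc]
      exact Nat.card_congr (H.equivMapOfInjective M.subtype M.subtype_injective).symm.toEquiv
    have hcyc : IsCyclic (H.map M.subtype) := hc _ (by rw [hHc']; exact haN.symm)
    have hmap : (H.map M.subtype).map (QuotientGroup.mk' N) = Q := by
      have h1 : (H.map M.subtype).map (QuotientGroup.mk' N) ≤ Q := by
        rintro _ ⟨_, ⟨⟨x, hx⟩, -, rfl⟩, rfl⟩
        exact hx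
      apply eq_of_le_of_card_ge h1
      rw [hQ, ← hHc']
      have hdis : ∀ x ∈ H.map M.subtype, QuotientGroup.mk' N x = 1 → x = 1 := by
        intro x hx h2
        have h3 : x ∈ N := (QuotientGroup.eq_one_iff x).1 h2
        have h4 : orderOf x ∣ Nat.card N := by
          have : orderOf (⟨x, h3⟩ : N) ∣ Nat.card N := orderOf_dvd_natCard _
          rwa [← Subgroup.orderOf_coe] at this
        have h5 : orderOf x ∣ a := by
          have : orderOf (⟨x, hx⟩ : H.map M.subtype) ∣ Nat.card (H.map M.subtype) := orderOf_dvd_natCard _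
          rwa [← Subgroup.orderOf_coe, hHc'] at this
        have h6 : orderOf x ∣ 1 := by rw [← haN]; exact Nat.dvd_gcd h4 h5
        exact orderOf_eq_one_iff.1 (Nat.dvd_one.1 h6)
      let f : (H.map M.subtype) →* ((H.map M.subtype).map (QuotientGroup.mk' N)) :=
        (QuotientGroup.mk' N).subgroupMap (H.map M.subtype)
      have hf : Function.Injective f := by
        rw [injective_iff_map_eq_one]
        rintro ⟨x, hx⟩ h2
        exact Subtype.ext (hdis x hx (congrArg Subtype.val h2))
      exact Nat.card_le_card_of_injective f hf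
    refine ⟨?_, _, hHc', hmap⟩
    rw [← hmap]
    exact isCyclic_of_surjective ((QuotientGroup.mk' N).subgroupMap (H.map M.subtype))
      ((QuotientGroup.mk' N).subgroupMap_surjective _)
  refine ⟨?_, ?_⟩
  · obtain ⟨Q, hQ⟩ := Cfsg.Agent.S0003.result a b hab hcab
    obtain ⟨-, H, hH, -⟩ := hHall Q hQ
    have hcyc : IsCyclic H := hc H (by rw [hH]; exact haN.symm)
    obtain ⟨K, hK⟩ := exists_card (G := H) (k := k) (by rw [hH]; exact hka)
    exact ⟨K.map H.subtype, by
      rw [← hK]; exact Nat.card_congr (K.equivMapOfInjective H.subtype H.subtype_injective).symm.toEquiv⟩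
  · intro K L hK hL
    refine ⟨hc K (by rw [hK]; exact hcop), ?_⟩
    have hdis : ∀ U : Subgroup Y, Nat.card U = k → Nat.card (U.map (QuotientGroup.mk' N)) = k := by
      intro U hU
      let f : U →* (U.map (QuotientGroup.mk' N)) := (QuotientGroup.mk' N).subgroupMap U
      have hf : Function.Injective f := by
        rw [injective_iff_map_eq_one]
        rintro ⟨x, hx⟩ h2
        have h2' : QuotientGroup.mk' N x = 1 := congrArg Subtype.val h2
        have h3 : x ∈ N := (QuotientGroup.eq_one_iff x).1 h2'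
        have h4 : orderOf x ∣ Nat.card N := by
          have : orderOf (⟨x, h3⟩ : N) ∣ Nat.card N := orderOf_dvd_natCard _
          rwa [← Subgroup.orderOf_coe] at this
        have h5 : orderOf x ∣ k := by
          have : orderOf (⟨x, hx⟩ : U) ∣ Nat.card U := orderOf_dvd_natCard _
          rwa [← Subgroup.orderOf_coe, hU] at this
        have h6 : orderOf x ∣ 1 := by rw [← hcop]; exact Nat.dvd_gcd h5 h4
        exact Subtype.ext (orderOf_eq_one_iff.1 (Nat.dvd_one.1 h6))
      rw [← hU]
      exact (Nat.card_congr (Equiv.ofBijective f ⟨hf, (QuotientGroup.mk' N).subgroupMap_surjective U⟩)).symm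
    have hcop2 : k.Coprime b := hkb
    obtain ⟨Q1, hQ1, hKQ⟩ := Cfsg.Agent.S0005.result a b hab hcab (K.map (QuotientGroup.mk' N))
      (by rw [hdis K hK]; exact hcop2)
    obtain ⟨Q2, hQ2, hLQ⟩ := Cfsg.Agent.S0005.result a b hab hcab (L.map (QuotientGroup.mk' N))
      (by rw [hdis L hL]; exact hcop2)
    obtain ⟨g, hg⟩ := Cfsg.Agent.S0004.result a b hab hcab Q1 Q2 hQ1 hQ2
    obtain ⟨y, rfl⟩ := QuotientGroup.mk'_surjective N g
    -- `K' = y K y⁻¹` and `L` have the same image
    set K' : Subgroup Y := K.map (MulAut.conj y).toMonoidHom with hK'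
    have hK'c : Nat.card K' = k := by
      rw [← hK]
      exact Nat.card_congr (K.equivMapOfInjective (MulAut.conj y).toMonoidHom (MulAut.conj y).injective).symm.toEquiv
    have h1 : K'.map (QuotientGroup.mk' N) ≤ Q2 := by
      rw [← hg]
      rintro _ ⟨_, ⟨x, hx, rfl⟩, rfl⟩
      refine ⟨QuotientGroup.mk' N x, hKQ ⟨x, hx, rfl⟩, ?_⟩
      change QuotientGroup.mk' N y * QuotientGroup.mk' N x * (QuotientGroup.mk' N y)⁻¹ = QuotientGroup.mk' N (y * x * y⁻¹)
      rw [map_mul, map_mul, map_inv]
    have h2 : K'.map (QuotientGroup.mk' N) = L.map (QuotientGroup.mk' N) :=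
      eq_of_le_cyclic (hHall Q2 hQ2).1 h1 hLQ (by rw [hdis K' hK'c, hdis L hL])
    have h3 : N ⊔ K' = N ⊔ L := by
      have h4 := congrArg (Subgroup.comap (QuotientGroup.mk' N)) h2
      rw [comap_map_eq, comap_map_eq, QuotientGroup.ker_mk'] at h4
      rw [sup_comm, h4, sup_comm]
    obtain ⟨z, hz⟩ := Cfsg.Agent.H20.DPi.conj_of_coprime_in N K' L (by rw [hK'c]; exact hcop.symm) h3
      (by rw [hL]; exact hcop.symm)
    refine ⟨z * y, ?_⟩
    rw [← hz, hK', Cfsg.Agent.H20.DPi.conj_map_map]

end Cfsg.Agent.H988.CopCyc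
end
end
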